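import Groth.Agent.Lib.PCMor4.PC
import Groth.Agent.Lib.CI2.KRLocal
import Groth.Agent.Lib.KoszulFibre4.Chart
import Groth.Prelude.Def_MoreMor
import Mathlib

/-!
# Pseudo-coherent ring maps
-/

set_option autoImplicit false
set_option linter.style.haveILetI false
universe u

attribute [local instance] HasDerivedCategory.standard

open TensorProduct MvPolynomial

namespace Groth.Agent.PCMor4

/-- The target is pseudo-coherent as a module over the source. -/
def PCR {R R' : Type u} [CommRing R] [CommRing R'] (φ : R →+* R') : Prop :=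
  letI := φ.toAlgebra
  ∀ k, PCn R k R'

theorem pcn_iff_of_pcr {R R' : Type u} [CommRing R] [CommRing R'] (φ : R →+* R') (hφ : PCR φ) (k : ℕ) (M : Type u)
    [AddCommGroup M] [Module R M] [Module R' M] (hc : ∀ r (x : M), φ r • x = r • x) : PCn R' k M ↔ PCn R k M := by
  letI := φ.toAlgebra
  haveI : IsScalarTower R R' M := ⟨fun r s x => by
    rw [Algebra.smul_def, mul_smul]; exact hc r _⟩
  exact pcn_restrict_iff hφ k M

theorem pcr_iff_of_pcr {R R' R'' : Type u} [CommRing R] [CommRing R'] [CommRing R''] (σ : R →+* R') (τ : R' →+* R'')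
    (hσ : PCR σ) : PCR (τ.comp σ) ↔ PCR τ := by
  letI : Algebra R R'' := (τ.comp σ).toAlgebra
  letI : Algebra R' R'' := τ.toAlgebra
  exact forall_congr' fun k => (pcn_iff_of_pcr σ hσ k R'' fun r x => rfl).symm

theorem pcr_comp {R R' R'' : Type u} [CommRing R] [CommRing R'] [CommRing R''] {σ : R →+* R'} {τ : R' →+* R''}
    (hσ : PCR σ) (hτ : PCR τ) : PCR (τ.comp σ) :=
  (pcr_iff_of_pcr σ τ hσ).2 hτ

theorem pcr_of_bijective {R R' : Type u} [CommRing R] [CommRing R'] (φ : R →+* R') (h : Function.Bijective φ) :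
    PCR φ := by
  letI := φ.toAlgebra
  intro k
  exact pcn_equiv (LinearEquiv.ofBijective (Algebra.linearMap R R') h) (pcn_finiteProjective k R)

theorem pcr_of_regular {R R' : Type u} [CommRing R] [CommRing R'] (φ : R →+* R') (hs : Function.Surjective φ) (f : R)
    (hf : ∀ a, f * a = 0 → a = 0) (hk : RingHom.ker φ = Ideal.span {f}) : PCR φ := by
  letI := φ.toAlgebra
  intro k
  refine pcn_mono (Nat.le_succ k) ((pcn_succ_iff (Algebra.linearMap R R') hs fun m => pcn_finiteProjective m _).2 ?_)
  have hinj : Function.Injective (LinearMap.toSpanSingleton R R f) := by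
    rw [injective_iff_map_eq_zero]
    intro a ha
    exact hf a (by rwa [mul_comm])
  have hr : LinearMap.range (LinearMap.toSpanSingleton R R f) = LinearMap.ker (Algebra.linearMap R R') := by
    rw [← LinearMap.span_singleton_eq_range]
    exact hk.symm
  exact pcn_equiv ((LinearEquiv.ofInjective _ hinj).trans (LinearEquiv.ofEq _ _ hr)) (pcn_finiteProjective k R)

theorem pcr_evalRingHom {P : Type u} [CommRing P] (a : P) : PCR (Polynomial.evalRingHom a) :=
  pcr_of_regular _ (fun p => ⟨Polynomial.C p, Polynomial.eval_C⟩) (Polynomial.X - Polynomial.C a)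
    (fun b hb => (Polynomial.monic_X_sub_C a).isRegular.left (by simpa using hb)) (Polynomial.ker_evalRingHom a)

theorem pcr_eval {P : Type u} [CommRing P] : ∀ (m : ℕ) (g : Fin m → P), PCR (eval₂Hom (RingHom.id P) g) := by
  intro m
  induction m with
  | zero =>
    intro g
    refine pcr_of_bijective _ ⟨fun a b h => ?_, fun p => ⟨C p, eval₂Hom_C _ _ p⟩⟩
    obtain ⟨a, rfl⟩ := C_surjective (R := P) (Fin 0) a
    obtain ⟨b, rfl⟩ := C_surjective (R := P) (Fin 0) b
    rw [eval₂Hom_C, eval₂Hom_C] at h
    rw [show a = b from h]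
  | succ m ih =>
    intro g
    let σ : MvPolynomial (Fin (m + 1)) P →+* MvPolynomial (Fin m) P :=
      (Polynomial.evalRingHom (C (g 0))).comp (finSuccEquiv P m).toRingEquiv.toRingHom
    have hσ : PCR σ := pcr_comp (pcr_of_bijective _ (finSuccEquiv P m).bijective) (pcr_evalRingHom _)
    have heq : eval₂Hom (RingHom.id P) g = (eval₂Hom (RingHom.id P) fun j => g j.succ).comp σ := by
      refine MvPolynomial.ringHom_ext (fun r => ?_) fun i => ?_
      · simp [σ, finSuccEquiv_apply]
      · refine Fin.cases ?_ (fun j => ?_) i <;> simp [σ, finSuccEquiv_apply]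
    rw [heq]
    exact pcr_comp hσ (ih _)

theorem pcr_map {P B : Type u} [CommRing P] [CommRing B] {φ : P →+* B} (hφ : PCR φ) (m : ℕ) :
    PCR (MvPolynomial.map (σ := Fin m) φ) := by
  letI := φ.toAlgebra
  letI : Algebra (MvPolynomial (Fin m) P) (MvPolynomial (Fin m) B) := algebraMvPolynomial
  intro k
  have h := pcn_baseChange (R' := MvPolynomial (Fin m) P) k B (hφ k)
  exact pcn_equiv (Algebra.IsPushout.equiv P (MvPolynomial (Fin m) P) B (MvPolynomial (Fin m) B)).toLinearEquiv h

/-- Pseudo-coherent ring maps. -/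
def PCH {A B : Type u} [CommRing A] [CommRing B] (f : A →+* B) : Prop :=
  ∃ (n : ℕ) (φ : MvPolynomial (Fin n) A →+* B), Function.Surjective φ ∧ φ.comp C = f ∧ PCR φ

theorem isPseudoCoherentHom_iff {A B : Type u} [CommRing A] [CommRing B] [Algebra A B] :
    MoreMor.IsPseudoCoherentHom A B ↔ PCH (algebraMap A B) := by
  constructor
  · rintro ⟨n, φ, hs, hpc⟩
    letI := φ.toRingHom.toAlgebra
    exact ⟨n, φ.toRingHom, hs, φ.comp_algebraMap, (pc'_iff_PCn.1 hpc : _)⟩
  · rintro ⟨n, φ, hs, hC, hpc⟩
    let ψ : MvPolynomial (Fin n) A →ₐ[A] B := { φ with commutes' := fun a => RingHom.congr_fun hC a }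
    letI := ψ.toRingHom.toAlgebra
    exact ⟨n, ψ, hs, pc'_iff_PCn.2 hpc⟩

/-- Pseudo-coherence does not depend on the presentation. -/
theorem pcr_of_pch {A B : Type u} [CommRing A] [CommRing B] {f : A →+* B} (hf : PCH f) {m : ℕ}
    (ψ : MvPolynomial (Fin m) A →+* B) (hψ : Function.Surjective ψ) (hψC : ψ.comp C = f) : PCR ψ := by
  obtain ⟨n, φ, hφ, hφC, hpc⟩ := hf
  choose g hg using fun j => hφ (ψ (X j))
  choose g' hg' using fun i => hψ (φ (X i))
  let σ := eval₂Hom (RingHom.id (MvPolynomial (Fin n) A)) g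
  let σ' := eval₂Hom (RingHom.id (MvPolynomial (Fin m) A)) g'
  let e := commAlgEquiv A (Fin m) (Fin n)
  have heq : φ.comp σ = (ψ.comp σ').comp e.toRingEquiv.toRingHom := by
    refine MvPolynomial.ringHom_ext (fun r => ?_) fun j => ?_
    · have hC : (φ.comp σ).comp C = φ := RingHom.ext fun p => by simp [σ]
      have hC' : ((ψ.comp σ').comp e.toRingEquiv.toRingHom).comp C = φ := by
        refine MvPolynomial.ringHom_ext (fun a => ?_) fun i => ?_
        · simp only [RingHom.comp_apply]
          show ψ (σ' (e (C (C a)))) = _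
          rw [commAlgEquiv_C, map_C, eval₂Hom_C, RingHom.id_apply]
          exact (RingHom.congr_fun hψC a).trans (RingHom.congr_fun hφC a).symm
        · simp only [RingHom.comp_apply]
          show ψ (σ' (e (C (X i)))) = _
          rw [commAlgEquiv_C, map_X, eval₂Hom_X']
          exact hg' i
      exact RingHom.congr_fun (hC.trans hC'.symm) r
    · show φ (σ (X j)) = ψ (σ' (e (X j)))
      rw [eval₂Hom_X', hg, commAlgEquiv_X, eval₂Hom_C]
      rfl
  have h1 : PCR ((ψ.comp σ').comp e.toRingEquiv.toRingHom) := heq ▸ pcr_comp (pcr_eval m g) hpc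
  exact (pcr_iff_of_pcr σ' ψ (pcr_eval n g')).1
    ((pcr_iff_of_pcr _ _ (pcr_of_bijective _ e.bijective)).1 h1)

/-- Two blocks of variables as one. -/
noncomputable def blockEquiv (A : Type u) [CommRing A] (m n : ℕ) :
    MvPolynomial (Fin (m + n)) A ≃ₐ[A] MvPolynomial (Fin m) (MvPolynomial (Fin n) A) :=
  (renameEquiv A finSumFinEquiv.symm).trans (sumAlgEquiv A (Fin m) (Fin n))

theorem pch_of_block {A B : Type u} [CommRing A] [CommRing B] {f : A →+* B} {m n : ℕ}
    (ψ : MvPolynomial (Fin m) (MvPolynomial (Fin n) A) →+* B) (hs : Function.Surjective ψ)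
    (hC : ∀ a, ψ (C (C a)) = f a) (h : PCR ψ) : PCH f :=
  ⟨m + n, ψ.comp (blockEquiv A m n).toRingEquiv.toRingHom, hs.comp (blockEquiv A m n).surjective,
    RingHom.ext fun a => by
      show ψ (blockEquiv A m n (C a)) = f a
      rw [← hC, show blockEquiv A m n (C a) = C (C a) from (blockEquiv A m n).commutes a],
    pcr_comp (pcr_of_bijective _ (blockEquiv A m n).bijective) h⟩

theorem pcr_of_pch_block {A B : Type u} [CommRing A] [CommRing B] {f : A →+* B} (hf : PCH f) {m n : ℕ}
    (ψ : MvPolynomial (Fin m) (MvPolynomial (Fin n) A) →+* B) (hs : Function.Surjective ψ)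
    (hC : ∀ a, ψ (C (C a)) = f a) : PCR ψ :=
  (pcr_iff_of_pcr _ _ (pcr_of_bijective _ (blockEquiv A m n).bijective)).1
    (pcr_of_pch hf (ψ.comp (blockEquiv A m n).toRingEquiv.toRingHom) (hs.comp (blockEquiv A m n).surjective)
      (RingHom.ext fun a => by
        show ψ (blockEquiv A m n (C a)) = f a
        rw [← hC, show blockEquiv A m n (C a) = C (C a) from (blockEquiv A m n).commutes a]))

theorem pch_comp {A B C' : Type u} [CommRing A] [CommRing B] [CommRing C'] {f : A →+* B} {g : B →+* C'}
    (hf : PCH f) (hg : PCH g) : PCH (g.comp f) := by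
  obtain ⟨n, φ, hφ, hφC, hpcφ⟩ := hf
  obtain ⟨m, θ, hθ, hθC, hpcθ⟩ := hg
  refine pch_of_block (θ.comp (MvPolynomial.map φ)) (hθ.comp (map_surjective φ hφ)) (fun a => ?_)
    (pcr_comp (pcr_map hpcφ m) hpcθ)
  simp [← hθC, ← hφC]

theorem pch_cancel {A B C' : Type u} [CommRing A] [CommRing B] [CommRing C'] {f : A →+* B} {g : B →+* C'}
    (hf : PCH f) (hgf : PCH (g.comp f)) : PCH g := by
  obtain ⟨n, φ, hφ, hφC, hpcφ⟩ := hf
  have hgf' := hgf
  obtain ⟨m, χ, hχ, hχC, -⟩ := hgf
  let θ := eval₂Hom g fun j => χ (X j)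
  have hθ : Function.Surjective θ := fun c => by
    obtain ⟨p, rfl⟩ := hχ c
    refine ⟨MvPolynomial.map f p, RingHom.congr_fun (?_ : θ.comp (MvPolynomial.map f) = χ) p⟩
    exact MvPolynomial.ringHom_ext (fun a => by simp [θ]; exact (RingHom.congr_fun hχC a).symm) (fun i => by simp [θ])
  refine ⟨m, θ, hθ, RingHom.ext fun b => eval₂Hom_C _ _ b, ?_⟩
  refine (pcr_iff_of_pcr _ θ (pcr_map hpcφ m)).1
    (pcr_of_pch_block hgf' _ (hθ.comp (map_surjective φ hφ)) fun a => ?_)
  simp [θ, ← hφC]

theorem pch_of_bijective {A B : Type u} [CommRing A] [CommRing B] (f : A →+* B) (h : Function.Bijective f) :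
    PCH f := by
  refine ⟨0, eval₂Hom f Fin.elim0, fun b => ⟨C (h.2 b).choose, by simp [(h.2 b).choose_spec]⟩,
    RingHom.ext fun a => eval₂Hom_C _ _ a, ?_⟩
  have heq : eval₂Hom f Fin.elim0 = f.comp (eval₂Hom (RingHom.id A) Fin.elim0) :=
    MvPolynomial.ringHom_ext (fun a => by simp) fun i => i.elim0
  rw [heq]
  exact pcr_comp (pcr_eval 0 _) (pcr_of_bijective f h)

theorem pcr_polyAway {P L : Type u} [CommRing P] [CommRing L] [Algebra P L] (r : P) [IsLocalization.Away r L] :
    ∃ π : Polynomial P →+* L, Function.Surjective π ∧ π.comp Polynomial.C = algebraMap P L ∧ PCR π := by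
  obtain ⟨hs, hk, hC⟩ := CI2.polyAway_spec r
  let e : Localization.Away r ≃ₐ[P] L := IsLocalization.algEquiv (Submonoid.powers r) _ _
  refine ⟨e.toRingEquiv.toRingHom.comp (CI2.polyAway r), e.surjective.comp hs, RingHom.ext fun a => ?_,
    pcr_comp (pcr_of_regular _ hs _ (KoszulFibre4.C_mul_X_sub_one_regular r) hk)
      (pcr_of_bijective _ e.bijective)⟩
  show e (CI2.polyAway r (Polynomial.C a)) = _
  rw [hC]
  exact e.commutes a

theorem pch_away {A L : Type u} [CommRing A] [CommRing L] [Algebra A L] (r : A) [IsLocalization.Away r L] :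
    PCH (algebraMap A L) := by
  obtain ⟨π, hs, hC, hpc⟩ := pcr_polyAway (L := L) r
  let e : MvPolynomial (Fin 1) A ≃ₐ[A] Polynomial A :=
    MvPolynomial.uniqueAlgEquiv A (Fin 1)
  refine ⟨1, π.comp e.toRingEquiv.toRingHom, hs.comp e.surjective, RingHom.ext fun a => ?_,
    pcr_comp (pcr_of_bijective _ e.bijective) hpc⟩
  show π (e (algebraMap A _ a)) = _
  rw [e.commutes]
  exact RingHom.congr_fun hC a

theorem finiteType_of_pch {A B : Type u} [CommRing A] [CommRing B] {f : A →+* B} (hf : PCH f) : f.FiniteType := by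
  obtain ⟨n, φ, hs, rfl, -⟩ := hf
  exact (RingHom.FiniteType.of_surjective φ hs).comp
    (RingHom.finiteType_algebraMap.2 (inferInstance : Algebra.FiniteType A (MvPolynomial (Fin n) A)))

theorem finitePresentation_of_pch {A B : Type u} [CommRing A] [CommRing B] {f : A →+* B} (hf : PCH f) :
    f.FinitePresentation := by
  obtain ⟨n, φ, hs, rfl, hpc⟩ := hf
  refine (RingHom.FinitePresentation.of_surjective φ hs ?_).comp
    (RingHom.finitePresentation_algebraMap.2 (inferInstance : Algebra.FinitePresentation A (MvPolynomial (Fin n) A)))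
  letI := φ.toAlgebra
  have h1 := (pcn_succ_iff (Algebra.linearMap (MvPolynomial (Fin n) A) B) hs fun m => pcn_finiteProjective m _).1 (hpc 1)
  exact Module.Finite.iff_fg.1 (pcn_zero_iff.1 h1)

/-- Pseudo-coherence is local on the target. -/
theorem pch_of_span_target {A B : Type u} [CommRing A] [CommRing B] (f : A →+* B) (s : Set B)
    (hs : Ideal.span s = ⊤) (h : ∀ r : s, PCH ((algebraMap B (Localization.Away r.1)).comp f)) : PCH f := by
  have hft : f.FiniteType := RingHom.finiteType_ofLocalizationSpanTarget f s hs fun r => finiteType_of_pch (h r)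
  letI := f.toAlgebra
  obtain ⟨n, φ₀, hφ⟩ := Algebra.FiniteType.iff_quotient_mvPolynomial''.1 hft
  let φ := φ₀.toRingHom
  have hφC : φ.comp C = f := φ₀.comp_algebraMap
  refine ⟨n, φ, hφ, hφC, ?_⟩
  letI := φ.toAlgebra
  intro k
  let s' : Set (MvPolynomial (Fin n) A) := φ ⁻¹' (s ∪ {0})
  have hs' : Ideal.span s' = ⊤ := by
    have hle : RingHom.ker φ ≤ Ideal.span s' := fun x hx => Ideal.subset_span (Or.inr hx)
    have hmap : (Ideal.span s').map φ = ⊤ := by
      rw [eq_top_iff, ← hs, Ideal.span_le]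
      intro b hb
      obtain ⟨x, rfl⟩ := hφ b
      exact Ideal.mem_map_of_mem φ (Ideal.subset_span (Or.inl hb))
    have := congrArg (Ideal.comap φ) hmap
    rwa [Ideal.comap_map_of_surjective φ hφ, ← RingHom.ker_eq_comap_bot, sup_eq_left.2 hle, Ideal.comap_top] at this
  refine pcn_of_span s' hs' k B fun G => ?_
  let P := MvPolynomial (Fin n) A
  let L := Localization.Away G.1
  let M := Localization.Away (φ G.1)
  rcases G.2 with hG | hG
  · obtain ⟨π, hπ, hπC, hpcπ⟩ := pcr_polyAway (L := L) G.1
    let τ : L →+* M := IsLocalization.Away.map L M φ G.1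
    have hτ : Function.Surjective τ := by
      haveI : IsLocalization ((Submonoid.powers G.1).map φ) M := by rw [Submonoid.map_powers]; infer_instance
      exact IsLocalization.map_surjective_of_surjective (M := Submonoid.powers G.1) (g := φ) (S := L) (Q := M) hφ
    have hτP : ∀ x, τ (algebraMap P L x) = algebraMap B M (φ x) := fun x => IsLocalization.map_eq (S := L) (Q := M) _ x
    let e : MvPolynomial (Fin 1) P ≃ₐ[P] Polynomial P :=
      MvPolynomial.uniqueAlgEquiv P (Fin 1)
    have h1 : PCR ((τ.comp π).comp e.toRingEquiv.toRingHom) := by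
      refine pcr_of_pch_block (h ⟨φ G.1, hG⟩) _ ((hτ.comp hπ).comp e.surjective) fun a => ?_
      show τ (π (e (algebraMap P _ (C a)))) = _
      rw [e.commutes, show π (algebraMap P (Polynomial P) (C a)) = algebraMap P L (C a) from RingHom.congr_fun hπC (C a),
        hτP, show φ (C a) = f a from RingHom.congr_fun hφC a]
      rfl
    have h2 : PCR τ := (pcr_iff_of_pcr π τ hpcπ).1 ((pcr_iff_of_pcr _ _ (pcr_of_bijective _ e.bijective)).1 h1)
    letI : Algebra L M := τ.toAlgebra
    haveI : IsScalarTower P L M := IsScalarTower.of_algebraMap_eq fun x =>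
      (IsScalarTower.algebraMap_apply P B M x).trans (hτP x).symm
    haveI : IsLocalization (Algebra.algebraMapSubmonoid B (Submonoid.powers G.1)) M := by
      rw [Algebra.algebraMapSubmonoid_powers]
      exact (inferInstance : IsLocalization.Away (φ G.1) M)
    haveI : IsLocalizedModule (Submonoid.powers G.1) (IsScalarTower.toAlgHom P B M).toLinearMap :=
      isLocalizedModule_iff_isLocalization.2 inferInstance
    exact pcn_equiv ((isLocalizedModule_iff_isBaseChange (Submonoid.powers G.1) L
      (IsScalarTower.toAlgHom P B M).toLinearMap).1 inferInstance).equiv.symm (h2 k)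
  · have hz : ∀ z : L ⊗[P] B, z = 0 := by
      intro z
      induction z using TensorProduct.induction_on with
      | zero => rfl
      | add a b ha hb => rw [ha, hb, add_zero]
      | tmul a b =>
        obtain ⟨u, hu⟩ := (IsLocalization.Away.algebraMap_isUnit (S := L) G.1).exists_right_inv
        rw [show a = algebraMap P L G.1 * (u * a) by rw [← mul_assoc, hu, one_mul], ← Algebra.smul_def,
          TensorProduct.smul_tmul, show G.1 • b = φ G.1 * b from rfl, show φ G.1 = 0 from hG, zero_mul,
          TensorProduct.tmul_zero]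
    haveI : Subsingleton (L ⊗[P] B) := subsingleton_of_forall_eq 0 hz
    exact pcn_of_subsingleton k _

end Groth.Agent.PCMor4
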