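import Groth.Agent.Lib.PCMor4.BaseChange
import Groth.Agent.Lib.FlatH4.PullFlat
import Mathlib

/-!
# Flat base change and fpqc descent of pseudo-coherent and perfect morphisms
-/

set_option autoImplicit false
set_option linter.style.haveILetI false
universe u

set_option backward.isDefEq.respectTransparency.types false

attribute [local instance] HasDerivedCategory.standard

open CategoryTheory CategoryTheory.Limits AlgebraicGeometry

namespace Groth.Agent.PCMor4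

section
variable (P : MorphismProperty Scheme.{u}) (Q : ∀ {A B : Type u} [CommRing A] [CommRing B], (A →+* B) → Prop)
  [HasRingHomProperty P Q] (hQ : RingHom.StableUnderCompositionWithLocalizationAwaySource Q)

include hQ in
theorem of_forall_exists {X Y : Scheme.{u}} (f : X ⟶ Y)
    (h : ∀ x : X, ∃ (U : X.Opens) (V : Y.Opens) (hUV : U ≤ f ⁻¹ᵁ V),
      IsAffineOpen U ∧ IsAffineOpen V ∧ x ∈ U ∧ Q (f.appLE V U hUV).hom) : P f :=
  (HasRingHomProperty.iff_exists_appLE (P := P) hQ).2 fun x => by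
    obtain ⟨U, V, hUV, hU, hV, hx, hP⟩ := h x
    exact ⟨⟨V, hV⟩, ⟨U, hU⟩, hx, hUV, hP⟩

variable
  (hbc : ∀ (A A' B B' : Type u) [CommRing A] [CommRing A'] [CommRing B] [CommRing B'] [Algebra A A'] [Algebra A B]
    [Algebra A B'] [Algebra A' B'] [Algebra B B'] [IsScalarTower A A' B'] [IsScalarTower A B B']
    [Algebra.IsPushout A A' B B'] [Module.Flat A A'], Q (algebraMap A B) → Q (algebraMap A' B'))

include hQ hbc in
theorem flat_baseChange {X S X' S' : Scheme.{u}} (f : X ⟶ S) (f' : X' ⟶ S') (g' : X' ⟶ X) (g : S' ⟶ S)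
    [Flat g] (hc : IsPullback g' f' f g) (hf : P f) : P f' := by
  refine of_forall_exists P Q hQ f' fun x' => ?_
  have hyy : g (f' x') = f (g' x') := by rw [← Scheme.Hom.comp_apply, ← hc.w]; rfl
  obtain ⟨U, hU, hyU, -⟩ :=
    exists_isAffineOpen_mem_and_subset (X := S) (x := f (g' x')) (U := ⊤) trivial
  obtain ⟨U', hU', hyU', hUU'⟩ :=
    exists_isAffineOpen_mem_and_subset (X := S') (x := f' x') (U := g ⁻¹ᵁ U)
      (show g (f' x') ∈ U by rw [hyy]; exact hyU)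
  obtain ⟨W, hW, hxW, hWU⟩ :=
    exists_isAffineOpen_mem_and_subset (X := X) (x := g' x') (U := f ⁻¹ᵁ U) hyU
  let W' := g' ⁻¹ᵁ W ⊓ f' ⁻¹ᵁ U'
  have hW' : IsAffineOpen W' := FlatH4.isAffineOpen_of_isPullback hc hUU' hWU rfl hU hU' hW
  refine ⟨W', U', inf_le_right, hW', hU', ⟨hxW, hyU'⟩, ?_⟩
  have eX : W' ≤ g' ⁻¹ᵁ W := inf_le_left
  have eY : W' ≤ f' ⁻¹ᵁ U' := inf_le_right
  letI : Algebra Γ(S, U) Γ(S', U') := (g.appLE U U' hUU').hom.toAlgebra
  letI : Algebra Γ(S, U) Γ(X, W) := (f.appLE U W hWU).hom.toAlgebra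
  letI : Algebra Γ(S', U') Γ(X', W') := (f'.appLE U' W' eY).hom.toAlgebra
  letI : Algebra Γ(X, W) Γ(X', W') := (g'.appLE W W' eX).hom.toAlgebra
  letI : Algebra Γ(S, U) Γ(X', W') :=
    ((algebraMap Γ(X, W) Γ(X', W')).comp (algebraMap Γ(S, U) Γ(X, W))).toAlgebra
  haveI : IsScalarTower Γ(S, U) Γ(X, W) Γ(X', W') := IsScalarTower.of_algebraMap_eq fun _ => rfl
  haveI : IsScalarTower Γ(S, U) Γ(S', U') Γ(X', W') := IsScalarTower.of_algebraMap_eq fun r => by
    show (f.appLE U W hWU ≫ g'.appLE W W' eX) r = (g.appLE U U' hUU' ≫ f'.appLE U' W' eY) r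
    rw [Scheme.Hom.appLE_comp_appLE, Scheme.Hom.appLE_comp_appLE]
    simp only [hc.w]
  haveI := FlatH4.algebra_isPushout_sections hc hUU' hWU (UY := W') rfl hU hU' hW rfl rfl rfl rfl
  haveI : Module.Flat Γ(S, U) Γ(S', U') := Scheme.Hom.flat_appLE g hU hU' hUU'
  exact hbc Γ(S, U) Γ(S', U') Γ(X, W) Γ(X', W') (HasRingHomProperty.appLE P f hf ⟨U, hU⟩ ⟨W, hW⟩ hWU)

variable
  (hdesc : ∀ (A A' B B' : Type u) [CommRing A] [CommRing A'] [CommRing B] [CommRing B'] [Algebra A A'] [Algebra A B]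
    [Algebra A B'] [Algebra A' B'] [Algebra B B'] [IsScalarTower A A' B'] [IsScalarTower A B B']
    [Algebra.IsPushout A A' B B'] [Module.FaithfullyFlat A A'], Q (algebraMap A' B') → Q (algebraMap A B))

include hQ hbc hdesc in
theorem fpqc_descent {X S X' S' : Scheme.{u}} (f : X ⟶ S) (f' : X' ⟶ S') (g' : X' ⟶ X) (g : S' ⟶ S)
    [Flat g] [Surjective g] [QuasiCompact g] (hc : IsPullback g' f' f g) (hf' : P f') : P f := by
  refine of_forall_exists P Q hQ f fun x => ?_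
  obtain ⟨V, hV, hxV, -⟩ :=
    exists_isAffineOpen_mem_and_subset (X := S) (x := f x) (U := ⊤) trivial
  obtain ⟨U, hU, hxU, hUV⟩ :=
    exists_isAffineOpen_mem_and_subset (X := X) (x := x) (U := f ⁻¹ᵁ V) hxV
  refine ⟨U, V, hUV, hU, hV, hxU, ?_⟩
  haveI : CompactSpace (g ⁻¹ᵁ V).toScheme :=
    isCompact_iff_compactSpace.1 (QuasiCompact.isCompact_preimage (f := g) _ V.2 hV.isCompact)
  let 𝒰 := (g ⁻¹ᵁ V).toScheme.affineCover.finiteSubcover
  let S'' : Scheme.{u} := ∐ fun j => 𝒰.X j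
  let p : S'' ⟶ (g ⁻¹ᵁ V).toScheme := Sigma.desc 𝒰.f
  let m : S'' ⟶ S' := p ≫ (g ⁻¹ᵁ V).ι
  haveI := HasRingHomProperty.instIsZariskiLocalAtSource (P := @Flat.{u}) (Q := RingHom.Flat)
  haveI : Flat p := IsZariskiLocalAtSource.sigmaDesc (P := @Flat.{u}) fun j => inferInstance
  have hp : Function.Surjective p := fun z => by
    obtain ⟨y, hy⟩ := 𝒰.covers z
    exact ⟨Sigma.ι (fun j => 𝒰.X j) _ y, by rw [← Scheme.Hom.comp_apply]; simpa [p] using hy⟩
  haveI : Flat m := inferInstanceAs (Flat (p ≫ _))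
  let f'' := pullback.snd f' m
  have hc' : IsPullback (pullback.fst f' m ≫ g') f'' f (m ≫ g) :=
    (IsPullback.of_hasPullback f' m).paste_horiz hc
  have hf'' : P f'' := flat_baseChange P Q hQ hbc f' f'' (pullback.fst f' m) m (IsPullback.of_hasPullback f' m) hf'
  have hle : (⊤ : S''.Opens) ≤ (m ≫ g) ⁻¹ᵁ V := fun z _ => by
    show g ((g ⁻¹ᵁ V).ι (p z)) ∈ V
    exact (p z).2
  let g'' := pullback.fst f' m ≫ g'
  let W' := g'' ⁻¹ᵁ U ⊓ f'' ⁻¹ᵁ ⊤
  have hT : IsAffineOpen (⊤ : S''.Opens) := isAffineOpen_top S''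
  have hW' : IsAffineOpen W' := FlatH4.isAffineOpen_of_isPullback hc' hle hUV rfl hV hT hU
  have eX : W' ≤ g'' ⁻¹ᵁ U := inf_le_left
  have eY : W' ≤ f'' ⁻¹ᵁ ⊤ := inf_le_right
  letI : Algebra Γ(S, V) Γ(S'', ⊤) := ((m ≫ g).appLE V ⊤ hle).hom.toAlgebra
  letI : Algebra Γ(S, V) Γ(X, U) := (f.appLE V U hUV).hom.toAlgebra
  letI : Algebra Γ(S'', ⊤) Γ(pullback f' m, W') := (f''.appLE ⊤ W' eY).hom.toAlgebra
  letI : Algebra Γ(X, U) Γ(pullback f' m, W') := (g''.appLE U W' eX).hom.toAlgebra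
  letI : Algebra Γ(S, V) Γ(pullback f' m, W') :=
    ((algebraMap Γ(X, U) Γ(pullback f' m, W')).comp (algebraMap Γ(S, V) Γ(X, U))).toAlgebra
  haveI : IsScalarTower Γ(S, V) Γ(X, U) Γ(pullback f' m, W') := IsScalarTower.of_algebraMap_eq fun _ => rfl
  haveI : IsScalarTower Γ(S, V) Γ(S'', ⊤) Γ(pullback f' m, W') := IsScalarTower.of_algebraMap_eq fun r => by
    show (f.appLE V U hUV ≫ g''.appLE U W' eX) r = ((m ≫ g).appLE V ⊤ hle ≫ f''.appLE ⊤ W' eY) r
    rw [Scheme.Hom.appLE_comp_appLE, Scheme.Hom.appLE_comp_appLE]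
    simp only [g'', hc'.w]
  haveI := FlatH4.algebra_isPushout_sections hc' hle hUV (UY := W') rfl hV hT hU rfl rfl rfl rfl
  haveI : Module.Flat Γ(S, V) Γ(S'', ⊤) := Scheme.Hom.flat_appLE (m ≫ g) hV hT hle
  haveI : Module.FaithfullyFlat Γ(S, V) Γ(S'', ⊤) := Module.FaithfullyFlat.of_comap_surjective fun z => by
    have hzV : hV.fromSpec z ∈ V := by rw [← SetLike.mem_coe, ← hV.range_fromSpec]; exact Set.mem_range_self z
    obtain ⟨y, hy⟩ := g.surjective (hV.fromSpec z)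
    obtain ⟨w, hw⟩ := hp ⟨y, by show g y ∈ V; rw [hy]; exact hzV⟩
    refine ⟨hT.primeIdealOf ⟨w, trivial⟩, ?_⟩
    have h1 := IsAffineOpen.comap_primeIdealOf_appLE (f := m ≫ g) V hV ⊤ hT hle (x := w) trivial
    refine h1.trans ?_
    apply hV.fromSpec.isOpenEmbedding.injective
    rw [hV.fromSpec_primeIdealOf]
    show g ((g ⁻¹ᵁ V).ι (p w)) = _
    rw [hw]
    exact hy
  exact hdesc Γ(S, V) Γ(S'', ⊤) Γ(X, U) Γ(pullback f' m, W')
    (HasRingHomProperty.appLE P f'' hf'' ⟨⊤, hT⟩ ⟨W', hW'⟩ eY)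

end

theorem pfh_baseChange {A A' B B' : Type u} [CommRing A] [CommRing A'] [CommRing B] [CommRing B'] [Algebra A A']
    [Algebra A B] [Algebra A B'] [Algebra A' B'] [Algebra B B'] [IsScalarTower A A' B'] [IsScalarTower A B B']
    [Algebra.IsPushout A A' B B'] [Module.Flat A A'] (h : PFH (algebraMap A B)) : PFH (algebraMap A' B') :=
  ⟨pch_baseChange (A := A) (A' := A') (B := B) (B' := B') h.1, tdh_baseChange (A := A) (A' := A') (B := B) (B' := B') h.2⟩

theorem pfh_descend {A A' B B' : Type u} [CommRing A] [CommRing A'] [CommRing B] [CommRing B'] [Algebra A A']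
    [Algebra A B] [Algebra A B'] [Algebra A' B'] [Algebra B B'] [IsScalarTower A A' B'] [IsScalarTower A B B']
    [Algebra.IsPushout A A' B B'] [Module.FaithfullyFlat A A'] (h : PFH (algebraMap A' B')) : PFH (algebraMap A B) :=
  ⟨pch_descend (A := A) (A' := A') (B := B) (B' := B') h.1, tdh_descend (A := A) (A' := A') (B := B) (B' := B') h.2⟩

variable {X S X' S' : Scheme.{u}} (f : X ⟶ S) (f' : X' ⟶ S') (g' : X' ⟶ X) (g : S' ⟶ S)

theorem pcMor_flat_baseChange [Flat g] (hc : IsPullback g' f' f g) (hf : pcMor f) : pcMor f' :=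
  flat_baseChange pcMor @PCH pch_stableUnderCompositionSource
    (fun A A' B B' _ _ _ _ _ _ _ _ _ _ _ _ _ h => pch_baseChange (A := A) (A' := A') (B := B) (B' := B') h) f f' g' g hc hf

theorem pfMor_flat_baseChange [Flat g] (hc : IsPullback g' f' f g) (hf : pfMor f) : pfMor f' :=
  flat_baseChange pfMor @PFH pfh_stableUnderCompositionSource
    (fun _ _ _ _ _ _ _ _ _ _ _ _ _ _ _ _ _ h => pfh_baseChange h) f f' g' g hc hf

theorem pcMor_descent [Flat g] [Surjective g] [QuasiCompact g] (hc : IsPullback g' f' f g) (hf' : pcMor f') :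
    pcMor f :=
  fpqc_descent pcMor @PCH pch_stableUnderCompositionSource
    (fun A A' B B' _ _ _ _ _ _ _ _ _ _ _ _ _ h => pch_baseChange (A := A) (A' := A') (B := B) (B' := B') h)
    (fun A A' B B' _ _ _ _ _ _ _ _ _ _ _ _ _ h => pch_descend (A := A) (A' := A') (B := B) (B' := B') h) f f' g' g hc hf'

theorem pfMor_descent [Flat g] [Surjective g] [QuasiCompact g] (hc : IsPullback g' f' f g) (hf' : pfMor f') :
    pfMor f :=
  fpqc_descent pfMor @PFH pfh_stableUnderCompositionSource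
    (fun _ _ _ _ _ _ _ _ _ _ _ _ _ _ _ _ _ h => pfh_baseChange h)
    (fun _ _ _ _ _ _ _ _ _ _ _ _ _ _ _ _ _ h => pfh_descend h) f f' g' g hc hf'

theorem pfMor_of_flat {X Y : Scheme.{u}} (f : X ⟶ Y) [Flat f] [LocallyOfFinitePresentation f] : pfMor f := by
  rw [pfMor, affineLocally_iff_forall_isAffineOpen]
  exact fun hV W hW e => pfh_of_flat _ (Scheme.Hom.flat_appLE f hV hW e)
    (f.finitePresentation_appLE hV hW e)

end Groth.Agent.PCMor4
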