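import Groth.Agent.Lib.PCMor4.Local
import Groth.Agent.Lib.CI2.KRStep
import Groth.Agent.Lib.CI2.Ops
import Mathlib

/-!
# Quotients by Koszul regular ideals are perfect
-/

set_option autoImplicit false
set_option linter.style.haveILetI false
universe u

attribute [local instance] HasDerivedCategory.standard

open TensorProduct
open Groth.Agent.CanElt (KObj kd)
open Groth.Agent.CI2 (Ex)

namespace Groth.Agent.PCMor4

theorem free_finite_KObj {G : Type u} [CommRing G] : ∀ (l : List G) (n : ℕ),
    Module.Finite G (KObj G G l n) ∧ Module.Projective G (KObj G G l n)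
  | [], 0 => ⟨inferInstanceAs (Module.Finite G G), inferInstanceAs (Module.Projective G G)⟩
  | [], _ + 1 => ⟨inferInstanceAs (Module.Finite G PUnit.{u + 1}), inferInstanceAs (Module.Projective G PUnit.{u + 1})⟩
  | _ :: l, 0 => free_finite_KObj l 0
  | _ :: l, n + 1 => by
    haveI := (free_finite_KObj l (n + 1)).1
    haveI := (free_finite_KObj l n).1
    haveI := (free_finite_KObj l (n + 1)).2
    haveI := (free_finite_KObj l n).2
    exact ⟨inferInstanceAs (Module.Finite G (KObj G G l (n + 1) × KObj G G l n)),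
      inferInstanceAs (Module.Projective G (KObj G G l (n + 1) × KObj G G l n))⟩

theorem range_kd_perfect {G : Type u} [CommRing G] (l : List G) (h : Ex G G l) :
    ∀ (j n : ℕ), l.length ≤ n + j → (∀ k, PCn G k (LinearMap.range (kd G G l n))) ∧
      DRing.HasTorDimLE G j (LinearMap.range (kd G G l n)) := by
  intro j
  induction j with
  | zero =>
    intro n hn
    haveI := CanElt.subsingleton_KObj G G l (n + 1) (by omega)
    haveI : Subsingleton (LinearMap.range (kd G G l n)) := ⟨fun a b => by
      obtain ⟨x, hx⟩ := a.2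
      obtain ⟨y, hy⟩ := b.2
      exact Subtype.ext (by rw [← hx, ← hy, Subsingleton.elim x y])⟩
    exact ⟨fun k => pcn_of_subsingleton k _, td_of_subsingleton 0⟩
  | succ j ih =>
    intro n hn
    obtain ⟨hpc, htd⟩ := ih (n + 1) (by omega)
    haveI := (free_finite_KObj l (n + 1)).1
    haveI := (free_finite_KObj l (n + 1)).2
    let p := (kd G G l n).rangeRestrict
    have hp : Function.Surjective p := LinearMap.surjective_rangeRestrict _
    have hk : LinearMap.range (kd G G l (n + 1)) = LinearMap.ker p := by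
      rw [LinearMap.ker_rangeRestrict]
      ext z
      exact ⟨fun ⟨w, hw⟩ => by rw [LinearMap.mem_ker, ← hw, CanElt.kd_kd],
        fun hz => LinearMap.mem_range.2 (h n z hz)⟩
    let e := LinearEquiv.ofEq _ _ hk
    refine ⟨fun k => pcn_mono (Nat.le_succ k)
      ((pcn_succ_iff p hp fun m => pcn_finiteProjective m _).2 (pcn_equiv e (hpc k))), ?_⟩
    exact td_quotient p hp (td_equiv e htd) (td_of_flat _)

theorem quotient_ofList_perfect {G : Type u} [CommRing G] (l : List G) (h : Ex G G l) :
    (∀ k, PCn G k (G ⧸ Ideal.ofList l)) ∧ DRing.HasTorDimLE G (l.length + 1) (G ⧸ Ideal.ofList l) := by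
  obtain ⟨hpc, htd⟩ := range_kd_perfect l h l.length 0 (by omega)
  let p : G →ₗ[G] G ⧸ Ideal.ofList l := Submodule.mkQ _
  have hp : Function.Surjective p := Submodule.mkQ_surjective _
  let k0 := CanElt.k0 G G l
  have hk : (LinearMap.range (kd G G l 0)).map k0.toLinearMap = LinearMap.ker p := by
    rw [Submodule.ker_mkQ]
    ext x
    rw [Submodule.mem_map_equiv, CanElt.mem_range_kd_zero, LinearEquiv.apply_symm_apply]
    rw [Ideal.smul_eq_mul, ← Ideal.one_eq_top, mul_one]
  let e : LinearMap.range (kd G G l 0) ≃ₗ[G] LinearMap.ker p :=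
    (k0.submoduleMap _).trans (LinearEquiv.ofEq _ _ hk)
  exact ⟨fun k => pcn_mono (Nat.le_succ k)
    ((pcn_succ_iff p hp fun m => pcn_finiteProjective m _).2 (pcn_equiv e (hpc k))),
    td_quotient p hp (td_equiv e htd) (td_of_flat _)⟩

/-- The quotient map by a Koszul regular ideal. -/
theorem quotient_isKR_perfect {P : Type u} [CommRing P] (I : Ideal P) (h : LCI.IsKoszulRegularIdeal I) :
    (∀ k, PCn P k (P ⧸ I)) ∧ DRing.HasFiniteTorDim P (P ⧸ I) := by
  classical
  let s : Set P := {g | ∃ d, (∀ k, PCn (Localization.Away g) k (Localization.Away g ⊗[P] (P ⧸ I))) ∧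
    DRing.HasTorDimLE (Localization.Away g) d (Localization.Away g ⊗[P] (P ⧸ I))}
  have hs : Ideal.span s = ⊤ := by
    by_contra hne
    obtain ⟨m, hm, hle⟩ := Ideal.exists_le_maximal _ hne
    obtain ⟨g, hgm, hg⟩ : ∃ g, g ∉ m ∧ g ∈ s := by
      by_cases hIm : I ≤ m
      · obtain ⟨g, hg, l, hl, hspan⟩ := (CI2.isKR_iff I).1 h ⟨m, hm.isPrime⟩ hIm
        obtain ⟨hpc, htd⟩ := quotient_ofList_perfect l hl
        let e := (Ideal.quotientEquivAlgOfEq (Localization.Away g) hspan.symm).toLinearEquiv.trans
          (Algebra.TensorProduct.quotIdealMapEquivTensorQuot (Localization.Away g) I).toLinearEquiv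
        exact ⟨g, hg, _, fun k => pcn_equiv e (hpc k), td_equiv e htd⟩
      · obtain ⟨g, hgI, hgm⟩ := SetLike.not_le_iff_exists.1 hIm
        haveI : Subsingleton (Localization.Away g ⊗[P] (P ⧸ I)) := subsingleton_of_forall_eq 0 fun z => by
          have hu : IsUnit (algebraMap P (Localization.Away g) g) := IsLocalization.Away.algebraMap_isUnit g
          induction z using TensorProduct.induction_on with
          | zero => rfl
          | add a b ha hb => rw [ha, hb, add_zero]
          | tmul a b =>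
            obtain ⟨c, rfl⟩ : ∃ c, g • c = a := by
              obtain ⟨v, hv⟩ := hu.exists_left_inv
              exact ⟨v * a, by rw [Algebra.smul_def, ← mul_assoc, mul_comm _ v, hv, one_mul]⟩
            obtain ⟨b, rfl⟩ := Ideal.Quotient.mk_surjective b
            rw [TensorProduct.smul_tmul, show g • Ideal.Quotient.mk I b = Ideal.Quotient.mk I (g * b) from rfl,
              Ideal.Quotient.eq_zero_iff_mem.2 (I.mul_mem_right b hgI), TensorProduct.tmul_zero]
        exact ⟨g, hgm, 0, fun k => pcn_of_subsingleton k _, td_of_subsingleton 0⟩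
    exact hgm (hle (Ideal.subset_span hg))
  obtain ⟨t, ht, hts⟩ := (Ideal.span_eq_top_iff_finite s).1 hs
  choose d hpc hd using fun r : (↑t : Set P) => ht r.2
  refine ⟨fun k => pcn_of_span _ hts k _ fun r => hpc r k, Finset.univ.sup d, ?_⟩
  refine td_of_span (P ⧸ I) _ hts fun r => ?_
  exact td_mono (d := 0 + d r) (by rw [zero_add]; exact Finset.le_sup (Finset.mem_univ r))
    (td_trans (B := Localization.Away r.1)
      (haveI := IsLocalization.flat (Localization.Away r.1) (Submonoid.powers r.1); td_of_flat 0) (d r) _ (hd r))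

theorem pch_of_pcr {P C : Type u} [CommRing P] [CommRing C] (σ : P →+* C) (hs : Function.Surjective σ)
    (h : PCR σ) : PCH σ := by
  refine ⟨0, MvPolynomial.eval₂Hom σ Fin.elim0, fun c => ⟨MvPolynomial.C (hs c).choose, by simp [(hs c).choose_spec]⟩,
    RingHom.ext fun a => MvPolynomial.eval₂Hom_C _ _ a, ?_⟩
  have heq : MvPolynomial.eval₂Hom σ Fin.elim0 = σ.comp (MvPolynomial.eval₂Hom (RingHom.id P) Fin.elim0) :=
    MvPolynomial.ringHom_ext (fun a => by simp) fun i => i.elim0
  rw [heq]
  exact pcr_comp (pcr_eval 0 _) h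

theorem pfh_of_surjective {P C : Type u} [CommRing P] [CommRing C] (σ : P →+* C) (hs : Function.Surjective σ)
    (hpc : ∀ k, PCn P k (P ⧸ RingHom.ker σ)) (htd : DRing.HasFiniteTorDim P (P ⧸ RingHom.ker σ)) : PFH σ := by
  let e := RingHom.quotientKerEquivOfSurjective hs
  have hmk : PFH (Ideal.Quotient.mk (RingHom.ker σ)) := by
    have e₁ : (Ideal.Quotient.mk (RingHom.ker σ)).toAlgebra = (Ideal.Quotient.algebra P) :=
      Algebra.algebra_ext _ _ fun _ => rfl
    refine ⟨pch_of_pcr _ Ideal.Quotient.mk_surjective ?_, ?_⟩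
    · show ∀ k, @PCn P _ k _ _ (Ideal.Quotient.mk (RingHom.ker σ)).toAlgebra.toModule
      rw [e₁]; exact hpc
    · show @DRing.HasFiniteTorDim P _ _ _ (Ideal.Quotient.mk (RingHom.ker σ)).toAlgebra.toModule
      rw [e₁]; exact htd
  have he : σ = e.toRingHom.comp (Ideal.Quotient.mk _) := RingHom.ext fun p => rfl
  rw [he]
  exact pfh_comp hmk ⟨pch_of_bijective _ e.bijective, tdh_of_flat _ (RingHom.Flat.of_bijective e.bijective)⟩

/-- A surjection with Koszul regular kernel is perfect. -/
theorem pfh_of_isKR {P C : Type u} [CommRing P] [CommRing C] (σ : P →+* C) (hs : Function.Surjective σ)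
    (h : LCI.IsKoszulRegularIdeal (RingHom.ker σ)) : PFH σ :=
  pfh_of_surjective σ hs (quotient_isKR_perfect _ h).1 (quotient_isKR_perfect _ h).2

theorem pfh_of_isWeaklyRegular {P C : Type u} [CommRing P] [CommRing C] (σ : P →+* C) (hs : Function.Surjective σ)
    (l : List P) (hl : RingTheory.Sequence.IsWeaklyRegular P l) (hk : RingHom.ker σ = Ideal.ofList l) : PFH σ := by
  refine pfh_of_surjective σ hs ?_ ?_
  · rw [hk]; exact (quotient_ofList_perfect l (CI2.ex_of_isWeaklyRegular l P hl)).1
  · rw [hk]; exact ⟨_, (quotient_ofList_perfect l (CI2.ex_of_isWeaklyRegular l P hl)).2⟩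

theorem pfh_mvPolynomial (A : Type u) [CommRing A] (n : ℕ) :
    PFH (algebraMap A (MvPolynomial (Fin n) A)) :=
  ⟨⟨n, RingHom.id _, Function.surjective_id, rfl, pcr_of_bijective _ Function.bijective_id⟩,
    tdh_of_flat _ (RingHom.flat_algebraMap_iff.2 inferInstance)⟩

theorem pfh_of_isLCI {A B : Type u} [CommRing A] [CommRing B] [Algebra A B] (h : LCI.IsLCI A B) :
    PFH (algebraMap A B) := by
  obtain ⟨-, n, f, hs, hk⟩ := h
  rw [← f.comp_algebraMap]
  exact pfh_comp (pfh_mvPolynomial A n) (pfh_of_isKR f.toRingHom hs hk)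

end Groth.Agent.PCMor4
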