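import Groth.Agent.Lib.PCMor4.SchemeBC
import Groth.Agent.Lib.PCMor4.Koszul
import Groth.Agent.Lib.CI2.KRSmooth
import Mathlib

/-!
# Cancelling smooth maps from perfect maps
-/

set_option autoImplicit false
set_option linter.style.haveILetI false
universe u

set_option backward.isDefEq.respectTransparency.types false

attribute [local instance] HasDerivedCategory.standard
attribute [local instance] Algebra.TensorProduct.rightAlgebra

open TensorProduct AlgebraicGeometry CategoryTheory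

namespace Groth.Agent.PCMor4

theorem isKR_bot (C : Type u) [CommRing C] : LCI.IsKoszulRegularIdeal (⊥ : Ideal C) := by
  rw [CI2.isKR_iff]
  exact fun p _ => ⟨1, fun h => p.isPrime.ne_top ((Ideal.eq_top_iff_one _).2 h), [], CI2.ex_nil _,
    by rw [Ideal.ofList_nil, Ideal.map_bot]⟩

theorem pfh_of_smooth_comp {A B C : Type u} [CommRing A] [CommRing B] [CommRing C] (φ : A →+* B) (hφ : φ.Smooth)
    (ψ : B →+* C) (h : PFH (ψ.comp φ)) : PFH ψ := by
  letI := φ.toAlgebra
  haveI : Algebra.Smooth A B := hφ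
  letI := ψ.toAlgebra
  letI : Algebra A C := (ψ.comp φ).toAlgebra
  haveI : IsScalarTower A B C := IsScalarTower.of_algebraMap_eq fun _ => rfl
  haveI : Module.Flat A B := RingHom.flat_algebraMap_iff.1 (RingHom.Smooth.flat (f := algebraMap A B) hφ)
  let μ : (C ⊗[A] B) →ₐ[C] C :=
    Algebra.TensorProduct.lift (Algebra.ofId C C) (IsScalarTower.toAlgHom A B C) fun _ _ => Commute.all _ _
  have hμs : Function.Surjective μ := fun c => ⟨c ⊗ₜ 1, by simp [μ]⟩
  have hk : LCI.IsKoszulRegularIdeal (RingHom.ker μ.toRingHom) :=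
    (CI2.isKR_iff_of_smooth (A := C) (B := C ⊗[A] B) (RingHom.id C) Function.surjective_id μ.toRingHom
      μ.comp_algebraMap).1 (by rw [show RingHom.ker (RingHom.id C) = ⊥ from RingHom.ker_coe_equiv (RingEquiv.refl C)]; exact isKR_bot C)
  haveI : Algebra.IsPushout A B C (C ⊗[A] B) := TensorProduct.isPushout'
  have h1 : PFH (algebraMap B (C ⊗[A] B)) :=
    pfh_baseChange (A := A) (A' := B) (B := C) (B' := C ⊗[A] B) h
  have h2 := pfh_comp h1 (pfh_of_isKR μ.toRingHom hμs hk)
  have he : μ.toRingHom.comp (algebraMap B (C ⊗[A] B)) = ψ := RingHom.ext fun b => by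
    show μ (1 ⊗ₜ b) = ψ b
    simp only [μ, Algebra.TensorProduct.lift_tmul, map_one, one_mul]
    rfl
  rwa [he] at h2

theorem pfMor_of_comp_smooth {X Y S : Scheme.{u}} (f : X ⟶ Y) (g : Y ⟶ S) [Smooth g] (h : pfMor (f ≫ g)) :
    pfMor f := by
  rw [pfMor, affineLocally_iff_forall_isAffineOpen] at h
  refine pfMor_of_forall_exists f fun x => ?_
  obtain ⟨W, hW, hxW, -⟩ := exists_isAffineOpen_mem_and_subset (X := S) (x := g (f x)) (U := ⊤) trivial
  obtain ⟨V, hV, hxV, hVW⟩ := exists_isAffineOpen_mem_and_subset (X := Y) (x := f x) (U := g ⁻¹ᵁ W) hxW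
  obtain ⟨U, hU, hxU, hUV⟩ := exists_isAffineOpen_mem_and_subset (X := X) (x := x) (U := f ⁻¹ᵁ V) hxV
  refine ⟨U, V, hUV, hU, hV, hxU, pfh_of_smooth_comp (g.appLE W V hVW).hom (g.smooth_appLE hW hV hVW) _ ?_⟩
  rw [← CommRingCat.hom_comp, Scheme.Hom.appLE_comp_appLE]
  exact h hW hU _

end Groth.Agent.PCMor4
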