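import Groth.Agent.Lib.PCMor4.PC
import Groth.Agent.Lib.TorBal.Dim
import Groth.Agent.Lib.DBaseChange.TorTri
import Groth.Prelude.Def_DRing2
import Mathlib

/-!
# Tor dimension: change of rings, localisation, base change
-/

set_option autoImplicit false
set_option linter.style.haveILetI false
universe u

attribute [local instance] HasDerivedCategory.standard

open TensorProduct CategoryTheory CategoryTheory.Limits

namespace Groth.Agent.PCMor4

section Basic

variable {A : Type u} [CommRing A] {M : Type u} [AddCommGroup M] [Module A M]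

theorem td_iff {d : ℕ} : DRing.HasTorDimLE A d M ↔ ∀ N : ModuleCat.{u} A, ∀ p, d < p →
    IsZero (((Tor (ModuleCat.{u} A) p).obj (ModuleCat.of A M)).obj N) := by
  refine ⟨fun h N p hp => ?_, fun h N _ _ p hp => ModuleCat.subsingleton_of_isZero (h (ModuleCat.of A N) p hp)⟩
  have := h N p hp
  exact ModuleCat.isZero_of_subsingleton _

theorem td_mono {d e : ℕ} (hde : d ≤ e) (h : DRing.HasTorDimLE A d M) : DRing.HasTorDimLE A e M :=
  fun N _ _ p hp => h N p (lt_of_le_of_lt hde hp)

theorem td_zero_iff : DRing.HasTorDimLE A 0 M ↔ Module.Flat A M :=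
  TorBal.flat_iff_hasTorDimLE_zero M

theorem td_of_flat [Module.Flat A M] (d : ℕ) : DRing.HasTorDimLE A d M :=
  td_mono (Nat.zero_le d) (td_zero_iff.2 inferInstance)

theorem td_succ_iff {F : Type u} [AddCommGroup F] [Module A F] [Module.Flat A F] (p : F →ₗ[A] M)
    (hp : Function.Surjective p) {d : ℕ} :
    DRing.HasTorDimLE A (d + 1) M ↔ DRing.HasTorDimLE A d (LinearMap.ker p) := by
  rw [td_iff, td_iff]
  refine forall_congr' fun N => ⟨fun h q hq => ?_, fun h q hq => ?_⟩
  · obtain ⟨r, rfl⟩ : ∃ r, q = r + 1 := ⟨q - 1, by omega⟩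
    exact (FlatSyz.isZero_tor_shift _ (LinearMap.ker p).injective_subtype p
      (LinearMap.exact_subtype_ker_map p) hp r).1 (h (r + 2) (by omega))
  · obtain ⟨r, rfl⟩ : ∃ r, q = r + 2 := ⟨q - 2, by omega⟩
    exact (FlatSyz.isZero_tor_shift _ (LinearMap.ker p).injective_subtype p
      (LinearMap.exact_subtype_ker_map p) hp r).2 (h (r + 1) (by omega))

theorem td_quotient {F : Type u} [AddCommGroup F] [Module A F] (p : F →ₗ[A] M) (hp : Function.Surjective p) {d : ℕ}
    (hK : DRing.HasTorDimLE A d (LinearMap.ker p)) (hF : DRing.HasTorDimLE A (d + 1) F) :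
    DRing.HasTorDimLE A (d + 1) M := by
  obtain ⟨t, hT⟩ := DMod.exists_surj_triangle p hp
  have h1 := TorBal.amplitude_of_hasTorDimLE _ d hK
  have h2 := TorBal.amplitude_of_hasTorDimLE _ (d + 1) hF
  exact TorBal.hasTorDimLE_of_amplitude M (d + 1) (DBaseChange.torAmp_triangle₃ _ 0 _ hT
    (DBaseChange.hasTorAmplitudeIn_mono (by push_cast; omega) (by omega) h1) h2)

theorem td_equiv {N : Type u} [AddCommGroup N] [Module A N] (e : M ≃ₗ[A] N) {d : ℕ} (h : DRing.HasTorDimLE A d M) :
    DRing.HasTorDimLE A d N :=
  td_iff.2 fun L p hp => (Iso.isZero_iff (((Tor (ModuleCat.{u} A) p).mapIso e.toModuleIso).app L)).1 (td_iff.1 h L p hp)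

theorem td_of_subsingleton [Subsingleton M] (d : ℕ) : DRing.HasTorDimLE A d M :=
  haveI := Module.Free.of_subsingleton A M
  td_of_flat d

end Basic

section Rings

variable {A B : Type u} [CommRing A] [CommRing B] [Algebra A B]

theorem cancelBaseChange_natural (M : Type u) [AddCommGroup M] [Module A M] [Module B M] [IsScalarTower A B M]
    {L P : Type u} [AddCommGroup L] [Module A L] [AddCommGroup P] [Module A P] (ι : L →ₗ[A] P)
    (z : M ⊗[B] (B ⊗[A] L)) :
    AlgebraTensorModule.cancelBaseChange A B B M P ((ι.baseChange B).lTensor M z) =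
      ι.lTensor M (AlgebraTensorModule.cancelBaseChange A B B M L z) := by
  induction z using TensorProduct.induction_on with
  | zero => simp
  | add a b ha hb => simp only [map_add, ha, hb]
  | tmul m w =>
    induction w using TensorProduct.induction_on with
    | zero => simp
    | add a b ha hb => simp only [TensorProduct.tmul_add, map_add, ha, hb]
    | tmul b l => simp

/-- A flat module over an algebra has at most the tor dimension of the algebra. -/
theorem td_flat_over (M : Type u) [AddCommGroup M] [Module A M] [Module B M] [IsScalarTower A B M] [Module.Flat B M]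
    {d : ℕ} (h : DRing.HasTorDimLE A d B) : DRing.HasTorDimLE A d M := by
  rw [td_iff] at h ⊢
  intro N p hp
  obtain ⟨i, rfl⟩ : ∃ i, p = i + 1 := ⟨p - 1, by omega⟩
  let Pr := ProjectiveResolution.of N
  have hB := (FlatSyz.isZero_tor_succ_iff Pr i).1 (h N (i + 1) hp)
  refine (FlatSyz.isZero_tor_succ_iff Pr i).2 fun x y hxy => ?_
  let ι := (LinearMap.range (FlatSyz.dLin Pr i)).subtype
  have hinj := Module.Flat.lTensor_preserves_injective_linearMap (M := M) (ι.baseChange B) hB
  apply (AlgebraTensorModule.cancelBaseChange A B B M _).symm.injective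
  apply hinj
  apply (AlgebraTensorModule.cancelBaseChange A B B M _).injective
  rw [cancelBaseChange_natural, cancelBaseChange_natural, LinearEquiv.apply_symm_apply, LinearEquiv.apply_symm_apply]
  exact hxy

/-- Tor dimension along a composite. -/
theorem td_trans {d : ℕ} (hB : DRing.HasTorDimLE A d B) : ∀ (e : ℕ) (M : Type u) [AddCommGroup M] [Module A M]
    [Module B M] [IsScalarTower A B M], DRing.HasTorDimLE B e M → DRing.HasTorDimLE A (d + e) M := by
  intro e
  induction e with
  | zero =>
    intro M _ _ _ _ h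
    haveI := td_zero_iff.1 h
    exact td_flat_over M hB
  | succ e ih =>
    intro M _ _ _ _ h
    let p := Finsupp.linearCombination B (id : M → M)
    have hp : Function.Surjective p := Finsupp.linearCombination_id_surjective B M
    have hK := ih _ ((td_succ_iff p hp).1 h)
    exact td_quotient (p.restrictScalars A) hp (d := d + e)
      (td_equiv ({ toFun := fun x => ⟨x.1, x.2⟩
                   map_add' := fun _ _ => rfl
                   map_smul' := fun _ _ => rfl
                   invFun := fun x => ⟨x.1, x.2⟩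
                   left_inv := fun _ => rfl
                   right_inv := fun _ => rfl } : LinearMap.ker p ≃ₗ[A] LinearMap.ker (p.restrictScalars A)) hK)
      (td_mono (by omega) (td_flat_over (M →₀ B) hB))

/-- Tor dimension is local on the algebra. -/
theorem td_of_span (M : Type u) [AddCommGroup M] [Module A M] [Module B M] [IsScalarTower A B M] (s : Set B)
    (hs : Ideal.span s = ⊤) {d : ℕ}
    (h : ∀ r : s, DRing.HasTorDimLE A d (Localization.Away r.1 ⊗[B] M)) : DRing.HasTorDimLE A d M := by
  rw [td_iff]
  intro N p hp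
  obtain ⟨i, rfl⟩ : ∃ i, p = i + 1 := ⟨p - 1, by omega⟩
  let Pr := ProjectiveResolution.of N
  let L := LinearMap.range (FlatSyz.dLin Pr i)
  refine (FlatSyz.isZero_tor_succ_iff Pr i).2 ((injective_iff_map_eq_zero _).2 fun z hz => ?_)
  let c : Ideal B := (Submodule.span B {z}).annihilator
  suffices hc : c = ⊤ by
    have := (Submodule.mem_annihilator_span_singleton z (1 : B)).1 ((Ideal.eq_top_iff_one c).1 hc)
    rwa [one_smul] at this
  by_contra hc
  obtain ⟨m, hm, hcm⟩ := Ideal.exists_le_maximal c hc
  obtain ⟨r, hr, hrm⟩ : ∃ r ∈ s, r ∉ m := by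
    by_contra hall
    push Not at hall
    exact hm.ne_top (top_le_iff.1 (hs ▸ Ideal.span_le.2 hall))
  let Lr := Localization.Away r
  let j : M →ₗ[B] Lr ⊗[B] M := TensorProduct.mk B Lr M 1
  have hinj := (FlatSyz.isZero_tor_succ_iff Pr i).1 (td_iff.1 (h ⟨r, hr⟩) N (i + 1) hp)
  have h0 : (j.restrictScalars A).rTensor L z = 0 := by
    apply hinj
    rw [map_zero, ← LinearMap.comp_apply, LinearMap.lTensor_comp_rTensor, ← LinearMap.rTensor_comp_lTensor,
      LinearMap.comp_apply, hz, map_zero]
  let E : (Lr ⊗[B] M) ⊗[A] L ≃ₗ[B] Lr ⊗[B] (M ⊗[A] L) := AlgebraTensorModule.assoc A B B Lr M L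
  have key : ∀ w : M ⊗[A] L, E ((j.restrictScalars A).rTensor L w) = TensorProduct.mk B Lr (M ⊗[A] L) 1 w := by
    intro w
    induction w using TensorProduct.induction_on with
    | zero => simp
    | add a b ha hb => simp only [map_add, ha, hb]
    | tmul m l => rfl
  have h1 : TensorProduct.mk B Lr (M ⊗[A] L) 1 z = 0 := by rw [← key, h0, map_zero]
  haveI : IsLocalizedModule (Submonoid.powers r) (TensorProduct.mk B Lr (M ⊗[A] L) 1) :=
    (isLocalizedModule_iff_isBaseChange (Submonoid.powers r) Lr _).2 (TensorProduct.isBaseChange B _ Lr)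
  obtain ⟨⟨_, n, rfl⟩, hn⟩ := (IsLocalizedModule.eq_zero_iff (Submonoid.powers r) _).1 h1
  exact hrm (hm.isPrime.mem_of_pow_mem n (hcm ((Submodule.mem_annihilator_span_singleton z _).2 hn)))

/-- Flat base change. -/
theorem td_baseChange [Module.Flat A B] : ∀ (d : ℕ) (M : Type u) [AddCommGroup M] [Module A M],
    DRing.HasTorDimLE A d M → DRing.HasTorDimLE B d (B ⊗[A] M) := by
  intro d
  induction d with
  | zero =>
    intro M _ _ h
    haveI := td_zero_iff.1 h
    exact td_of_flat 0
  | succ d ih =>
    intro M _ _ h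
    let p := Finsupp.linearCombination A (id : M → M)
    have hp : Function.Surjective p := Finsupp.linearCombination_id_surjective A M
    refine (td_succ_iff (p.baseChange B) (LinearMap.lTensor_surjective B hp)).2 ?_
    exact td_equiv (kerBaseChange p hp
      (Module.Flat.lTensor_preserves_injective_linearMap _ (LinearMap.ker p).injective_subtype))
      (ih _ ((td_succ_iff p hp).1 h))

/-- Faithfully flat descent. -/
theorem td_of_faithfullyFlat [Module.FaithfullyFlat A B] : ∀ (d : ℕ) (M : Type u) [AddCommGroup M] [Module A M],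
    DRing.HasTorDimLE B d (B ⊗[A] M) → DRing.HasTorDimLE A d M := by
  intro d
  induction d with
  | zero =>
    intro M _ _ h
    haveI := td_zero_iff.1 h
    haveI := Module.Flat.of_flat_tensorProduct (R := A) (M := M) B
    exact td_of_flat 0
  | succ d ih =>
    intro M _ _ h
    let p := Finsupp.linearCombination A (id : M → M)
    have hp : Function.Surjective p := Finsupp.linearCombination_id_surjective A M
    refine (td_succ_iff p hp).2 (ih _ (td_equiv (M := LinearMap.ker (p.baseChange B)) (kerBaseChange (R' := B) p hp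
      (Module.Flat.lTensor_preserves_injective_linearMap _ (LinearMap.ker p).injective_subtype)).symm ?_))
    exact (td_succ_iff (p.baseChange B) (LinearMap.lTensor_surjective B hp)).1 h

end Rings

end Groth.Agent.PCMor4
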