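import Groth.Agent.Lib.PCMor4.Hom
import Groth.Agent.Lib.PCMor4.Tor
import Mathlib

/-!
# Pseudo-coherent and perfect morphisms are local
-/

set_option autoImplicit false
set_option linter.style.haveILetI false
universe u

attribute [local instance] HasDerivedCategory.standard

open TensorProduct AlgebraicGeometry CategoryTheory

namespace Groth.Agent.PCMor4

/-- Finite tor dimension of a ring map. -/
def TDH {A B : Type u} [CommRing A] [CommRing B] (f : A →+* B) : Prop :=
  letI := f.toAlgebra
  DRing.HasFiniteTorDim A B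

/-- Perfect ring maps. -/
def PFH {A B : Type u} [CommRing A] [CommRing B] (f : A →+* B) : Prop := PCH f ∧ TDH f

theorem isPerfectHom_iff {A B : Type u} [CommRing A] [CommRing B] (f : A →+* B) :
    (letI := f.toAlgebra; MoreMor.IsPerfectHom A B) ↔ PFH f := by
  letI := f.toAlgebra
  exact and_congr isPseudoCoherentHom_iff Iff.rfl

theorem tdh_of_flat {A B : Type u} [CommRing A] [CommRing B] (f : A →+* B) (hf : f.Flat) : TDH f := by
  letI := f.toAlgebra
  haveI : Module.Flat A B := hf
  exact ⟨0, td_of_flat 0⟩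

theorem tdh_comp {A B C : Type u} [CommRing A] [CommRing B] [CommRing C] {f : A →+* B} {g : B →+* C}
    (hf : TDH f) (hg : TDH g) : TDH (g.comp f) := by
  letI := f.toAlgebra
  letI := g.toAlgebra
  letI := (g.comp f).toAlgebra
  haveI : IsScalarTower A B C := IsScalarTower.of_algebraMap_eq fun _ => rfl
  obtain ⟨d, hd⟩ := hf
  obtain ⟨e, he⟩ := hg
  exact ⟨d + e, td_trans hd e C he⟩

theorem tdh_of_span_target {A B : Type u} [CommRing A] [CommRing B] (f : A →+* B) (s : Set B)
    (hs : Ideal.span s = ⊤) (h : ∀ r : s, TDH ((algebraMap B (Localization.Away r.1)).comp f)) : TDH f := by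
  classical
  obtain ⟨t, ht, hts⟩ := (Ideal.span_eq_top_iff_finite s).1 hs
  letI := f.toAlgebra
  choose d hd using fun r : t => h ⟨r.1, ht r.2⟩
  refine ⟨Finset.univ.sup d, td_of_span B (t : Set B) hts fun r => ?_⟩
  let L := Localization.Away r.1
  let E := (TensorProduct.rid B L).symm
  letI I : Module A L := ((algebraMap B L).comp f).toAlgebra.toModule
  refine @td_equiv A _ L _ I _ _ _ (@AddEquiv.toLinearEquiv A L (L ⊗[B] B) _ _ _ I _ E.toAddEquiv fun a x => ?_) _
    (td_mono (Finset.le_sup (Finset.mem_univ r)) (hd r))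
  show E (algebraMap B L (f a) * x) = a • E x
  rw [← algebraMap_smul B a (E x), ← map_smul]
  exact congrArg E (Algebra.smul_def (f a) x).symm

theorem tdh_localization_away {R S : Type u} [CommRing R] [CommRing S] (f : R →+* S) (r : R) (R' S' : Type u)
    [CommRing R'] [CommRing S'] [Algebra R R'] [Algebra S S'] [IsLocalization.Away r R']
    [IsLocalization.Away (f r) S'] (h : TDH f) : TDH (IsLocalization.Away.map R' S' f r) := by
  letI := f.toAlgebra
  letI := (IsLocalization.Away.map R' S' f r).toAlgebra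
  letI : Algebra R S' := ((algebraMap S S').comp f).toAlgebra
  haveI : IsScalarTower R S S' := IsScalarTower.of_algebraMap_eq fun _ => rfl
  haveI : IsScalarTower R R' S' := IsScalarTower.of_algebraMap_eq fun x => by
    show algebraMap S S' (f x) = IsLocalization.Away.map R' S' f r (algebraMap R R' x)
    rw [IsLocalization.Away.map, IsLocalization.map_eq]
  haveI : Module.Flat R R' := IsLocalization.flat R' (Submonoid.powers r)
  haveI : IsLocalization (Algebra.algebraMapSubmonoid S (Submonoid.powers r)) S' := by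
    rw [Algebra.algebraMapSubmonoid_powers]
    exact (inferInstance : IsLocalization.Away (f r) S')
  haveI : IsLocalizedModule (Submonoid.powers r) (IsScalarTower.toAlgHom R S S').toLinearMap :=
    isLocalizedModule_iff_isLocalization.2 inferInstance
  obtain ⟨d, hd⟩ := h
  exact ⟨d, td_equiv ((isLocalizedModule_iff_isBaseChange (Submonoid.powers r) R'
    (IsScalarTower.toAlgHom R S S').toLinearMap).1 inferInstance).equiv (td_baseChange d S hd)⟩

theorem pch_localization_away {R S : Type u} [CommRing R] [CommRing S] (f : R →+* S) (r : R) (R' S' : Type u)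
    [CommRing R'] [CommRing S'] [Algebra R R'] [Algebra S S'] [IsLocalization.Away r R']
    [IsLocalization.Away (f r) S'] (h : PCH f) : PCH (IsLocalization.Away.map R' S' f r) := by
  refine pch_cancel (pch_away (L := R') r) ?_
  rw [show (IsLocalization.Away.map R' S' f r).comp (algebraMap R R') = (algebraMap S S').comp f from
    IsLocalization.map_comp _]
  exact pch_comp h (pch_away (L := S') (f r))

theorem ofLocalizationSpan_aux {R S : Type u} [CommRing R] [CommRing S] (f : R →+* S) (s : Set R)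
    (hs : Ideal.span s = ⊤) {Q : ∀ {A B : Type u} [CommRing A] [CommRing B], (A →+* B) → Prop}
    (hloc : ∀ (t : Set S), Ideal.span t = ⊤ → (∀ r : t, Q ((algebraMap S (Localization.Away r.1)).comp f)) → Q f)
    (hcomp : ∀ (r : R) (g : Localization.Away r →+* Localization.Away (f r)), Q g →
      Q (g.comp (algebraMap R (Localization.Away r))))
    (h : ∀ r : s, Q (Localization.awayMap f r.1)) : Q f := by
  refine hloc (f '' s) (by rw [← Ideal.map_span, hs, Ideal.map_top]) fun r => ?_
  obtain ⟨_, a, ha, rfl⟩ := r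
  have := hcomp a _ (h ⟨a, ha⟩)
  rwa [show (Localization.awayMap f a).comp (algebraMap R (Localization.Away a)) =
    (algebraMap S (Localization.Away (f a))).comp f from IsLocalization.map_comp _] at this

theorem pch_propertyIsLocal : RingHom.PropertyIsLocal @PCH where
  localizationAwayPreserves := fun R S _ _ f r R' S' _ _ _ _ _ _ h => pch_localization_away f r R' S' h
  ofLocalizationSpanTarget := fun R S _ _ f s hs h => pch_of_span_target f s hs h
  ofLocalizationSpan := fun R S _ _ f s hs h => ofLocalizationSpan_aux f s hs (pch_of_span_target f)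
    (fun r g hg => pch_comp (pch_away r) hg) h
  StableUnderCompositionWithLocalizationAwayTarget := fun R S T _ _ _ _ s _ f h => pch_comp h (pch_away (L := T) s)

theorem pfh_away {A L : Type u} [CommRing A] [CommRing L] [Algebra A L] (r : A) [IsLocalization.Away r L] :
    PFH (algebraMap A L) :=
  ⟨pch_away r, tdh_of_flat _ (RingHom.flat_algebraMap_iff.2 (IsLocalization.flat L (Submonoid.powers r)))⟩

theorem pfh_comp {A B C : Type u} [CommRing A] [CommRing B] [CommRing C] {f : A →+* B} {g : B →+* C}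
    (hf : PFH f) (hg : PFH g) : PFH (g.comp f) :=
  ⟨pch_comp hf.1 hg.1, tdh_comp hf.2 hg.2⟩

theorem pfh_of_span_target {A B : Type u} [CommRing A] [CommRing B] (f : A →+* B) (s : Set B)
    (hs : Ideal.span s = ⊤) (h : ∀ r : s, PFH ((algebraMap B (Localization.Away r.1)).comp f)) : PFH f :=
  ⟨pch_of_span_target f s hs fun r => (h r).1, tdh_of_span_target f s hs fun r => (h r).2⟩

theorem pfh_propertyIsLocal : RingHom.PropertyIsLocal @PFH where
  localizationAwayPreserves := fun R S _ _ f r R' S' _ _ _ _ _ _ h =>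
    ⟨pch_localization_away f r R' S' h.1, tdh_localization_away f r R' S' h.2⟩
  ofLocalizationSpanTarget := fun R S _ _ f s hs h => pfh_of_span_target f s hs h
  ofLocalizationSpan := fun R S _ _ f s hs h => ofLocalizationSpan_aux f s hs (pfh_of_span_target f)
    (fun r g hg => pfh_comp (pfh_away r) hg) h
  StableUnderCompositionWithLocalizationAwayTarget := fun R S T _ _ _ _ s _ f h => pfh_comp h (pfh_away (L := T) s)

/-- Pseudo-coherent morphisms, as a morphism property. -/
def pcMor : MorphismProperty Scheme.{u} := affineLocally @PCH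

/-- Perfect morphisms, as a morphism property. -/
def pfMor : MorphismProperty Scheme.{u} := affineLocally @PFH

instance : HasRingHomProperty pcMor.{u} @PCH := ⟨pch_propertyIsLocal, rfl⟩

instance : HasRingHomProperty pfMor.{u} @PFH := ⟨pfh_propertyIsLocal, rfl⟩

theorem isPseudoCoherentMor_iff {X Y : Scheme.{u}} (f : X ⟶ Y) : MoreMor.IsPseudoCoherentMor f ↔ pcMor f := by
  rw [pcMor, affineLocally_iff_forall_isAffineOpen]
  exact ⟨fun h U hU V hV e => (letI := (f.appLE U V e).hom.toAlgebra; isPseudoCoherentHom_iff.1 (h V U hV hU e)),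
    fun h V U hV hU e => (letI := (f.appLE U V e).hom.toAlgebra; isPseudoCoherentHom_iff.2 (h hU hV e))⟩

theorem isPerfectMor_iff {X Y : Scheme.{u}} (f : X ⟶ Y) : MoreMor.IsPerfectMor f ↔ pfMor f := by
  rw [pfMor, affineLocally_iff_forall_isAffineOpen]
  exact ⟨fun h U hU V hV e => (isPerfectHom_iff _).1 (h V U hV hU e),
    fun h V U hV hU e => (isPerfectHom_iff _).2 (h hU hV e)⟩

theorem pch_stableUnderCompositionSource :
    RingHom.StableUnderCompositionWithLocalizationAwaySource @PCH :=
  fun R S T _ _ _ _ r _ f h => pch_comp (pch_away (L := S) r) h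

theorem pfh_stableUnderCompositionSource :
    RingHom.StableUnderCompositionWithLocalizationAwaySource @PFH :=
  fun R S T _ _ _ _ r _ f h => pfh_comp (pfh_away (L := S) r) h

theorem pcMor_of_forall_exists {X Y : Scheme.{u}} (f : X ⟶ Y)
    (h : ∀ x : X, ∃ (U : X.Opens) (V : Y.Opens) (hUV : U ≤ f ⁻¹ᵁ V),
      IsAffineOpen U ∧ IsAffineOpen V ∧ x ∈ U ∧ PCH (f.appLE V U hUV).hom) : pcMor f :=
  (HasRingHomProperty.iff_exists_appLE (P := pcMor.{u}) pch_stableUnderCompositionSource).2 fun x => by
    obtain ⟨U, V, hUV, hU, hV, hx, hP⟩ := h x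
    exact ⟨⟨V, hV⟩, ⟨U, hU⟩, hx, hUV, hP⟩

theorem pfMor_of_forall_exists {X Y : Scheme.{u}} (f : X ⟶ Y)
    (h : ∀ x : X, ∃ (U : X.Opens) (V : Y.Opens) (hUV : U ≤ f ⁻¹ᵁ V),
      IsAffineOpen U ∧ IsAffineOpen V ∧ x ∈ U ∧ PFH (f.appLE V U hUV).hom) : pfMor f :=
  (HasRingHomProperty.iff_exists_appLE (P := pfMor.{u}) pfh_stableUnderCompositionSource).2 fun x => by
    obtain ⟨U, V, hUV, hU, hV, hx, hP⟩ := h x
    exact ⟨⟨V, hV⟩, ⟨U, hU⟩, hx, hUV, hP⟩

theorem pcMor_comp {X Y Z : Scheme.{u}} (f : X ⟶ Y) (g : Y ⟶ Z) (hf : pcMor f) (hg : pcMor g) :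
    pcMor (f ≫ g) :=
  (HasRingHomProperty.stableUnderComposition (P := pcMor.{u}) fun _ _ _ _ _ _ _ _ h h' => pch_comp h h').comp_mem f g hf hg

theorem pfMor_comp {X Y Z : Scheme.{u}} (f : X ⟶ Y) (g : Y ⟶ Z) (hf : pfMor f) (hg : pfMor g) :
    pfMor (f ≫ g) :=
  (HasRingHomProperty.stableUnderComposition (P := pfMor.{u}) fun _ _ _ _ _ _ _ _ h h' => pfh_comp h h').comp_mem f g hf hg

theorem locallyOfFinitePresentation_of_pcMor {X Y : Scheme.{u}} (f : X ⟶ Y) (hf : pcMor f) :
    LocallyOfFinitePresentation f := by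
  rw [HasRingHomProperty.eq_affineLocally @LocallyOfFinitePresentation]
  exact affineLocally_le (fun {R S} _ _ {f} h => finitePresentation_of_pch h) _ hf

end Groth.Agent.PCMor4

namespace Groth.Agent.PCMor4

theorem pch_of_noetherian {A B : Type u} [CommRing A] [CommRing B] [IsNoetherianRing A] (f : A →+* B)
    (hf : f.FiniteType) : PCH f := by
  letI := f.toAlgebra
  obtain ⟨n, φ₀, hφ⟩ := Algebra.FiniteType.iff_quotient_mvPolynomial''.1 hf
  refine ⟨n, φ₀.toRingHom, hφ, φ₀.comp_algebraMap, ?_⟩
  letI := φ₀.toRingHom.toAlgebra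
  haveI : Module.Finite (MvPolynomial (Fin n) A) B :=
    Module.Finite.of_surjective (Algebra.linearMap (MvPolynomial (Fin n) A) B) hφ
  exact fun k => Groth.Agent.DMod.pcModule_of_noetherian B _

theorem pcMor_of_comp {X Y Z : Scheme.{u}} (f : X ⟶ Y) (g : Y ⟶ Z) (hfg : pcMor (f ≫ g)) (hg : pcMor g) :
    pcMor f := by
  rw [pcMor, affineLocally_iff_forall_isAffineOpen] at hfg hg
  refine pcMor_of_forall_exists f fun x => ?_
  obtain ⟨W, hW, hxW, -⟩ := exists_isAffineOpen_mem_and_subset (X := Z) (x := g (f x)) (U := ⊤) trivial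
  obtain ⟨V, hV, hxV, hVW⟩ := exists_isAffineOpen_mem_and_subset (X := Y) (x := f x) (U := g ⁻¹ᵁ W) hxW
  obtain ⟨U, hU, hxU, hUV⟩ := exists_isAffineOpen_mem_and_subset (X := X) (x := x) (U := f ⁻¹ᵁ V) hxV
  refine ⟨U, V, hUV, hU, hV, hxU, pch_cancel (hg hW hV hVW) ?_⟩
  rw [← CommRingCat.hom_comp, Scheme.Hom.appLE_comp_appLE]
  exact hfg hW hU _

end Groth.Agent.PCMor4
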