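import Groth.Agent.Lib.PCMor4.Local
import Groth.Agent.Lib.TorBal.Perfect
import Mathlib

/-!
# Perfect ring maps and perfect modules over polynomial presentations
-/

set_option autoImplicit false
set_option linter.style.haveILetI false
universe u

attribute [local instance] HasDerivedCategory.standard

open TensorProduct Polynomial

namespace Groth.Agent.PCMor4

/-- Over a polynomial ring the tor dimension goes up by at most one. -/
theorem td_polynomial {P : Type u} [CommRing P] (M : Type u) [AddCommGroup M] [Module P M] [Module P[X] M]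
    [IsScalarTower P P[X] M] {d : ℕ} (h : DRing.HasTorDimLE P d M) : DRing.HasTorDimLE P[X] (d + 1) M := by
  let Q := P[X] ⊗[P] M
  let x : M →ₗ[P] M := Algebra.lsmul P P M (X : P[X])
  let μ : Q →ₗ[P[X]] M := (LinearMap.id : M →ₗ[P] M).liftBaseChange P[X]
  let η : Q →ₗ[P[X]] Q := (X : P[X]) • LinearMap.id - x.baseChange P[X]
  let g : ℕ → (M →ₗ[P] Q) := fun n =>
    ∑ i ∈ Finset.range n, (TensorProduct.mk P P[X] M (X ^ i)).comp (x ^ (n - 1 - i))
  let s : Q →ₗ[P] Q := TensorProduct.lift ((Polynomial.basisMonomials P).constr P g)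
  have hxp : ∀ (n : ℕ) (m : M), (x ^ n) m = (X : P[X]) ^ n • m := fun n => by
    induction n with
    | zero => simp
    | succ n ih => intro m; rw [pow_succ, Module.End.mul_apply, ih, pow_succ, mul_smul]; rfl
  have hs : ∀ (n : ℕ) (m : M), s (((X : P[X]) ^ n) ⊗ₜ m) =
      ∑ i ∈ Finset.range n, ((X : P[X]) ^ i) ⊗ₜ[P] (x ^ (n - 1 - i)) m := fun n m => by
    rw [show s (((X : P[X]) ^ n) ⊗ₜ m) = ((Polynomial.basisMonomials P).constr P g ((X : P[X]) ^ n)) m from rfl,
      show (X : P[X]) ^ n = Polynomial.basisMonomials P n by simp [Polynomial.X_pow_eq_monomial], Module.Basis.constr_basis]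
    simp [g]
  have hη : ∀ (n : ℕ) (m : M), η (((X : P[X]) ^ n) ⊗ₜ m) = ((X : P[X]) ^ (n + 1)) ⊗ₜ m - ((X : P[X]) ^ n) ⊗ₜ x m :=
    fun n m => by
      show (X : P[X]) • (((X : P[X]) ^ n) ⊗ₜ[P] m) - ((X : P[X]) ^ n) ⊗ₜ[P] x m = _
      rw [TensorProduct.smul_tmul', smul_eq_mul, ← pow_succ']
  have hμ : ∀ (n : ℕ) (m : M), μ (((X : P[X]) ^ n) ⊗ₜ m) = (x ^ n) m := fun n m => by
    rw [hxp]
    exact LinearMap.liftBaseChange_tmul ..
  have hext : ∀ (F G : Q →ₗ[P] Q), (∀ (n : ℕ) (m : M), F (((X : P[X]) ^ n) ⊗ₜ m) = G (((X : P[X]) ^ n) ⊗ₜ m)) →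
      ∀ q, F q = G q := fun F G hFG q => by
    refine LinearMap.congr_fun (TensorProduct.ext ((Polynomial.basisMonomials P).ext fun n => LinearMap.ext fun m => ?_)) q
    simpa [Polynomial.X_pow_eq_monomial] using hFG n m
  have h1 : ∀ q, s (η q) = q := hext (s ∘ₗ η.restrictScalars P) LinearMap.id fun n m => by
    rw [LinearMap.comp_apply, LinearMap.restrictScalars_apply]
    rw [hη, map_sub, hs, hs, Finset.sum_range_succ, add_comm, LinearMap.id_apply]
    rw [show n + 1 - 1 - n = 0 by omega, pow_zero, Module.End.one_apply, add_sub_assoc, ← Finset.sum_sub_distrib,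
      Finset.sum_eq_zero fun i hi => ?_, add_zero]
    rw [show n + 1 - 1 - i = (n - 1 - i) + 1 by have := Finset.mem_range.1 hi; omega, pow_succ, Module.End.mul_apply,
      sub_self]
  let ι : M →ₗ[P] Q := TensorProduct.mk P P[X] M 1
  have h2 : ∀ q, η (s q) + ι (μ q) = q :=
    hext (η.restrictScalars P ∘ₗ s + ι ∘ₗ μ.restrictScalars P) LinearMap.id fun n m => by
    rw [LinearMap.add_apply, LinearMap.comp_apply, LinearMap.comp_apply, LinearMap.restrictScalars_apply,
      LinearMap.restrictScalars_apply]
    rw [hs, map_sum, hμ, Finset.sum_congr rfl (g := fun i => ((X : P[X]) ^ (i + 1)) ⊗ₜ[P] (x ^ (n - (i + 1))) m -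
      ((X : P[X]) ^ i) ⊗ₜ[P] (x ^ (n - i)) m) fun i hi => ?_, Finset.sum_range_sub (fun i => ((X : P[X]) ^ i) ⊗ₜ[P] (x ^ (n - i)) m)]
    · simp only [Nat.sub_zero, Nat.sub_self, pow_zero, Module.End.one_apply, LinearMap.id_apply]
      exact sub_add_cancel _ _
    · rw [hη, ← Module.End.mul_apply, ← pow_succ']
      have := Finset.mem_range.1 hi
      congr 4 <;> omega
  have hμs : Function.Surjective μ := fun m => ⟨1 ⊗ₜ m, (LinearMap.liftBaseChange_tmul ..).trans (one_smul _ m)⟩
  have hμη : ∀ q, μ (η q) = 0 := fun q => by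
    induction q using TensorProduct.induction_on with
    | zero => simp
    | add a b ha hb => simp [ha, hb]
    | tmul p m =>
      show μ ((X : P[X]) • (p ⊗ₜ[P] m) - p ⊗ₜ[P] x m) = 0
      rw [map_sub, map_smul, show μ (p ⊗ₜ[P] m) = p • m from LinearMap.liftBaseChange_tmul ..,
        show μ (p ⊗ₜ[P] x m) = p • ((X : P[X]) • m) from LinearMap.liftBaseChange_tmul .., smul_comm, sub_self]
  have hk : LinearMap.range η = LinearMap.ker μ := le_antisymm (by rintro _ ⟨q, rfl⟩; exact hμη q)
    fun q hq => ⟨s q, by simpa [show μ q = 0 from hq] using h2 q⟩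
  have hinj : Function.Injective η := fun a b hab => by rw [← h1 a, ← h1 b, hab]
  exact td_quotient μ hμs (td_equiv ((LinearEquiv.ofInjective η hinj).trans (LinearEquiv.ofEq _ _ hk))
    (td_baseChange (B := P[X]) d M h)) (td_mono (Nat.le_succ d) (td_baseChange (B := P[X]) d M h))

theorem td_mvPolynomial {A : Type u} [CommRing A] : ∀ (n : ℕ) (M : Type u) [AddCommGroup M] [Module A M]
    [Module (MvPolynomial (Fin n) A) M] [IsScalarTower A (MvPolynomial (Fin n) A) M] {d : ℕ},
    DRing.HasTorDimLE A d M → DRing.HasTorDimLE (MvPolynomial (Fin n) A) (d + n) M := by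
  intro n
  induction n with
  | zero =>
    intro M _ _ _ _ d h
    let e := (MvPolynomial.isEmptyAlgEquiv A (Fin 0))
    letI : Algebra (MvPolynomial (Fin 0) A) A := e.toRingEquiv.toRingHom.toAlgebra
    haveI : Module.Flat (MvPolynomial (Fin 0) A) A := RingHom.Flat.of_bijective (f := e.toRingEquiv.toRingHom) e.bijective
    haveI : IsScalarTower (MvPolynomial (Fin 0) A) A M := ⟨fun r a m => by
      show (e r * a) • m = r • a • m
      conv_rhs => rw [← e.symm_apply_apply r]
      rw [show e.symm (e r) = algebraMap A _ (e r) from rfl, algebraMap_smul, mul_smul]⟩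
    exact td_mono (d := 0 + d) (by omega) (td_trans (td_of_flat 0) d M h)
  | succ n ih =>
    intro M _ _ _ _ d h
    let e := MvPolynomial.finSuccEquiv A n
    letI : Module (MvPolynomial (Fin n) A)[X] M := Module.compHom M e.symm.toRingEquiv.toRingHom
    letI : Module (MvPolynomial (Fin n) A) M :=
      Module.compHom M (Polynomial.C : MvPolynomial (Fin n) A →+* (MvPolynomial (Fin n) A)[X])
    haveI : IsScalarTower (MvPolynomial (Fin n) A) (MvPolynomial (Fin n) A)[X] M :=
      IsScalarTower.of_algebraMap_smul fun _ _ => rfl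
    haveI : IsScalarTower A (MvPolynomial (Fin n) A) M := IsScalarTower.of_algebraMap_smul fun a m => by
      show e.symm (Polynomial.C (MvPolynomial.C a)) • m = a • m
      rw [show e.symm (Polynomial.C (MvPolynomial.C a)) = algebraMap A _ a from e.symm.commutes a, algebraMap_smul]
    letI : Algebra (MvPolynomial (Fin (n + 1)) A) (MvPolynomial (Fin n) A)[X] := e.toRingEquiv.toRingHom.toAlgebra
    haveI : Module.Flat (MvPolynomial (Fin (n + 1)) A) (MvPolynomial (Fin n) A)[X] :=
      RingHom.Flat.of_bijective (f := e.toRingEquiv.toRingHom) e.bijective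
    haveI : IsScalarTower (MvPolynomial (Fin (n + 1)) A) (MvPolynomial (Fin n) A)[X] M := ⟨fun r q m => by
      show e.symm (e r * q) • m = r • e.symm q • m
      rw [map_mul, e.symm_apply_apply, mul_smul]⟩
    exact td_mono (d := 0 + (d + n + 1)) (by omega) (td_trans (td_of_flat 0) (d + n + 1) M (td_polynomial M (ih M h)))

theorem isPerfectModule_iff {A : Type u} [CommRing A] {M : Type u} [AddCommGroup M] [Module A M] :
    DRing.IsPerfectModule A M ↔ (∀ k, PCn A k M) ∧ DRing.HasFiniteTorDim A M := by
  refine ⟨fun h => ⟨pc'_iff_PCn.1 (DMod.pc'_of_perfect h), ?_⟩, fun ⟨hpc, d, hd⟩ =>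
    DBaseChange.isPerfect_of_pc_of_torAmp (pc'_iff_PCn.2 hpc) (TorBal.amplitude_of_hasTorDimLE M d hd)⟩
  obtain ⟨a, b, hab⟩ := DBaseChange.torAmp_of_isPerfect h
  haveI : (Dual.inD A M).IsLE 0 := DMod.isLE_single 0 (ModuleCat.of A M)
  exact ⟨(-a).toNat, TorBal.hasTorDimLE_of_amplitude M _
    (DBaseChange.hasTorAmplitudeIn_mono (by omega) le_rfl (TorBal.amplitude_shrink 0 hab))⟩

/-- Perfect maps and perfect modules over a presentation. -/
theorem pfh_iff_perfectModule {A B : Type u} [CommRing A] [CommRing B] (f : A →+* B) {n : ℕ}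
    (φ : MvPolynomial (Fin n) A →+* B) (hs : Function.Surjective φ) (hC : φ.comp MvPolynomial.C = f) :
    PFH f ↔ (letI := φ.toAlgebra; DRing.IsPerfectModule (MvPolynomial (Fin n) A) B) := by
  letI := f.toAlgebra
  letI := φ.toAlgebra
  haveI : IsScalarTower A (MvPolynomial (Fin n) A) B :=
    IsScalarTower.of_algebraMap_eq fun a => (RingHom.congr_fun hC a).symm
  rw [isPerfectModule_iff]
  refine ⟨fun ⟨hp, d, hd⟩ => ⟨pcr_of_pch hp φ hs hC, d + n, td_mvPolynomial n B hd⟩,
    fun ⟨hp, d, hd⟩ => ⟨⟨n, φ, hs, hC, hp⟩, 0 + d, td_trans (td_of_flat 0) d B hd⟩⟩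

set_option maxHeartbeats 1000000 in
theorem exists_td_away_of_atPrime {P : Type u} [CommRing P] (q : Ideal P) [q.IsPrime] :
    ∀ (e : ℕ) (M : Type u) [AddCommGroup M] [Module P M], (∀ k, PCn P k M) →
      DRing.HasTorDimLE (Localization.AtPrime q) e (Localization.AtPrime q ⊗[P] M) →
      ∃ g ∉ q, DRing.HasTorDimLE (Localization.Away g) e (Localization.Away g ⊗[P] M) := by
  intro e
  induction e with
  | zero =>
    intro M _ _ hpc h
    haveI := finite_of_pcn (hpc 0)
    haveI : Module.FinitePresentation P M := by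
      obtain ⟨m, p, hp⟩ := Module.Finite.exists_fin' P M
      exact Module.finitePresentation_of_surjective p hp
        (Module.Finite.iff_fg.1 (finite_of_pcn ((pcn_succ_iff p hp fun m => pcn_finiteProjective m _).1 (hpc 1))))
    haveI := td_zero_iff.1 h
    have hq : (⟨q, inferInstance⟩ : PrimeSpectrum P) ∈ Module.freeLocus P M :=
      (Module.mem_freeLocus_iff_tensor _ (Localization.AtPrime q)).2 Module.free_of_flat_of_isLocalRing
    obtain ⟨_, ⟨_, ⟨g, rfl⟩, rfl⟩, hg, hle⟩ := PrimeSpectrum.isBasis_basic_opens.exists_subset_of_mem_open hq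
      (Module.isOpen_freeLocus)
    haveI := (Module.basicOpen_subset_freeLocus_iff (R := P) (M := M)).1 hle
    refine ⟨g, hg, td_zero_iff.2 ?_⟩
    haveI : Module.Flat (Localization.Away g) (LocalizedModule.Away g M) := inferInstance
    exact Module.Flat.of_linearEquiv (LocalizedModule.equivTensorProduct (Submonoid.powers g) M).symm
  | succ e ih =>
    intro M _ _ hpc h
    haveI := finite_of_pcn (hpc 0)
    obtain ⟨m, p, hp⟩ := Module.Finite.exists_fin' P M
    haveI : Module.Flat P (Localization.AtPrime q) := IsLocalization.flat _ q.primeCompl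
    obtain ⟨g, hg, hK⟩ := ih (LinearMap.ker p)
      (fun k => (pcn_succ_iff p hp fun m => pcn_finiteProjective m _).1 (hpc (k + 1)))
      (td_equiv (kerBaseChange p hp
        (Module.Flat.lTensor_preserves_injective_linearMap _ (LinearMap.ker p).injective_subtype)).symm
        ((td_succ_iff (p.baseChange (Localization.AtPrime q)) (LinearMap.lTensor_surjective _ hp)).1 h))
    haveI : Module.Flat P (Localization.Away g) := IsLocalization.flat _ (Submonoid.powers g)
    let E := kerBaseChange (R' := Localization.Away g) p hp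
      (Module.Flat.lTensor_preserves_injective_linearMap _ (LinearMap.ker p).injective_subtype)
    have hK' := td_equiv (N := LinearMap.ker (p.baseChange (Localization.Away g))) E hK
    exact ⟨g, hg, (td_succ_iff (p.baseChange (Localization.Away g))
      (LinearMap.lTensor_surjective (Localization.Away g) hp)).2 hK'⟩

end Groth.Agent.PCMor4

namespace Groth.Agent.PCMor4

/-- Tor dimension over a localization. -/
theorem td_localization_iff {A : Type u} [CommRing A] (S : Submonoid A) (A' : Type u) [CommRing A'] [Algebra A A']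
    [IsLocalization S A'] (M : Type u) [AddCommGroup M] [Module A M] [Module A' M] [IsScalarTower A A' M] {d : ℕ} :
    DRing.HasTorDimLE A' d M ↔ DRing.HasTorDimLE A d M := by
  haveI : Module.Flat A A' := IsLocalization.flat _ S
  exact ⟨fun h => td_mono (d := 0 + d) (by omega) (td_trans (td_of_flat 0) d M h),
    fun h => td_equiv (IsLocalization.moduleLid S A' M) (td_baseChange d M h)⟩

theorem pfh_of_forall_atPrime {A B : Type u} [CommRing A] [CommRing B] [Algebra A B] (h : PCH (algebraMap A B))
    (hq : ∀ (Q : Ideal B) [Q.IsPrime], DRing.HasFiniteTorDim A (Localization.AtPrime Q)) :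
    PFH (algebraMap A B) := by
  refine ⟨h, ?_⟩
  obtain ⟨n, φ, hs, hC, hpc⟩ := h
  let P := MvPolynomial (Fin n) A
  letI : Algebra P B := φ.toAlgebra
  haveI : IsScalarTower A P B := IsScalarTower.of_algebraMap_eq fun a => (RingHom.congr_fun hC a).symm
  let s : Set B := {r | ∃ e, DRing.HasTorDimLE A e (Localization.Away r ⊗[B] B)}
  have hspan : Ideal.span s = ⊤ := by
    by_contra hne
    obtain ⟨Q, hQ, hle⟩ := Ideal.exists_le_maximal _ hne
    haveI := hQ.isPrime
    let q := Q.comap φ
    let L := Localization.AtPrime Q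
    have hmap : Algebra.algebraMapSubmonoid B q.primeCompl = Q.primeCompl :=
      Submonoid.ext fun b => Submonoid.mem_map.trans ⟨fun ⟨p, hp, hpb⟩ => hpb ▸ hp, fun hb => by
        obtain ⟨p, rfl⟩ := hs b
        exact ⟨p, hb, rfl⟩⟩
    haveI : IsLocalization (Algebra.algebraMapSubmonoid B q.primeCompl) L := by rw [hmap]; infer_instance
    haveI hloc : IsLocalizedModule q.primeCompl (IsScalarTower.toAlgHom P B L).toLinearMap :=
      isLocalizedModule_iff_isLocalization.2 inferInstance
    let E : L ≃ₗ[P] Localization.AtPrime q ⊗[P] B :=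
      haveI : IsLocalizedModule q.primeCompl (TensorProduct.mk P (Localization.AtPrime q) B 1) :=
        (isLocalizedModule_iff_isBaseChange q.primeCompl (Localization.AtPrime q) _).2 (TensorProduct.isBaseChange P _ _)
      IsLocalizedModule.linearEquiv q.primeCompl (IsScalarTower.toAlgHom P B L).toLinearMap
        (TensorProduct.mk P (Localization.AtPrime q) B 1)
    obtain ⟨d, hd⟩ := hq Q
    have h1 : DRing.HasTorDimLE A d (Localization.AtPrime q ⊗[P] B) := td_equiv (E.restrictScalars A) hd
    obtain ⟨g, hg, hgd⟩ := exists_td_away_of_atPrime q (d + n) B hpc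
      ((td_localization_iff q.primeCompl (Localization.AtPrime q) _).2 (td_mvPolynomial n _ h1))
    haveI : IsLocalization (Algebra.algebraMapSubmonoid B (Submonoid.powers g)) (Localization.Away (φ g)) := by
      rw [show Algebra.algebraMapSubmonoid B (Submonoid.powers g) = Submonoid.powers (φ g) from Submonoid.map_powers φ g]
      infer_instance
    haveI : IsLocalizedModule (Submonoid.powers g) (IsScalarTower.toAlgHom P B (Localization.Away (φ g))).toLinearMap :=
      isLocalizedModule_iff_isLocalization.2 inferInstance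
    haveI : IsLocalizedModule (Submonoid.powers g) (TensorProduct.mk P (Localization.Away g) B 1) :=
      (isLocalizedModule_iff_isBaseChange (Submonoid.powers g) (Localization.Away g) _).2 (TensorProduct.isBaseChange P _ _)
    let E' : Localization.Away g ⊗[P] B ≃ₗ[P] Localization.Away (φ g) :=
      IsLocalizedModule.linearEquiv (Submonoid.powers g) (TensorProduct.mk P (Localization.Away g) B 1)
        (IsScalarTower.toAlgHom P B (Localization.Away (φ g))).toLinearMap
    haveI : Module.Flat A (Localization.Away g) :=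
      haveI := IsLocalization.flat (Localization.Away g) (Submonoid.powers g)
      Module.Flat.trans A P _
    have h2 : DRing.HasTorDimLE A (0 + (d + n)) (Localization.Away g ⊗[P] B) := td_trans (td_of_flat 0) _ _ hgd
    exact hg (hle (Ideal.subset_span ⟨_, td_equiv ((TensorProduct.rid B (Localization.Away (φ g))).symm.restrictScalars A)
      (td_equiv (E'.restrictScalars A) h2)⟩))
  obtain ⟨t, ht, hts⟩ := (Ideal.span_eq_top_iff_finite s).1 hspan
  choose e he using fun r : (↑t : Set B) => ht r.2
  have hfin : DRing.HasFiniteTorDim A B :=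
    ⟨Finset.univ.sup e, td_of_span B _ hts fun r => td_mono (Finset.le_sup (Finset.mem_univ r)) (he r)⟩
  have e₁ : (algebraMap A B).toAlgebra = ‹Algebra A B› := Algebra.algebra_ext _ _ fun _ => rfl
  show @DRing.HasFiniteTorDim A _ B _ (algebraMap A B).toAlgebra.toModule
  rwa [e₁]

theorem td_atPrime_of_pfh {A B : Type u} [CommRing A] [CommRing B] [Algebra A B] (h : PFH (algebraMap A B))
    (L : Type u) [CommRing L] [Algebra B L] [Algebra A L] [IsScalarTower A B L] [Module.Flat B L] :
    DRing.HasFiniteTorDim A L := by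
  have e₁ : (algebraMap A B).toAlgebra = ‹Algebra A B› := Algebra.algebra_ext _ _ fun _ => rfl
  have h' : @DRing.HasFiniteTorDim A _ B _ (algebraMap A B).toAlgebra.toModule := h.2
  rw [e₁] at h'
  obtain ⟨d, hd⟩ := h'
  exact ⟨d, td_flat_over L hd⟩

end Groth.Agent.PCMor4
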