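import Groth.Agent.Lib.PCMor4.Local
import Groth.Agent.Lib.CI2.DiagSmooth
import Groth.Agent.Lib.CI2.RImmSmooth
import Groth.Agent.Lib.PerfLCI4.Kind
import Groth.Prelude.Def_Mor2
import Mathlib

/-!
# Flat morphisms with perfect diagonal are smooth
-/

set_option autoImplicit false
set_option linter.style.haveILetI false
universe u

set_option backward.isDefEq.respectTransparency.types false

attribute [local instance] HasDerivedCategory.standard

open AlgebraicGeometry CategoryTheory CategoryTheory.Limits TensorProduct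

namespace Groth.Agent.PCMor4

theorem smooth_affine {R S : CommRingCat.{u}} [IsNoetherianRing R] (φ : R ⟶ S) [Flat (Spec.map φ)]
    [LocallyOfFiniteType (Spec.map φ)] (h : pfMor (pullback.diagonal (Spec.map φ))) : Smooth (Spec.map φ) := by
  have hfl : φ.hom.Flat := (HasRingHomProperty.Spec_iff (P := @Flat)).1 inferInstance
  have hft : φ.hom.FiniteType := (HasRingHomProperty.Spec_iff (P := @LocallyOfFiniteType)).1 inferInstance
  rw [HasRingHomProperty.Spec_iff (P := @Smooth)]
  algebraize [φ.hom]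
  rw [show φ = CommRingCat.ofHom (algebraMap R S) from rfl, diagonal_SpecMap R S,
    MorphismProperty.cancel_right_of_respectsIso (P := pfMor), HasRingHomProperty.Spec_iff (P := pfMor)] at h
  letI : Algebra (S ⊗[R] S) S := (Algebra.TensorProduct.lmul' R (S := S)).toRingHom.toAlgebra
  exact CI2.smooth_of_diagonal (A := R) (B := S) (fun x y => Algebra.TensorProduct.lmul'_apply_tmul x y) h.2

theorem smooth_of_flat_of_diagonal {X Y : Scheme.{u}} (f : X ⟶ Y) [Flat f] [LocallyOfFiniteType f]
    [IsLocallyNoetherian Y] (h : pfMor (pullback.diagonal f)) : Smooth f := by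
  let 𝒰Y := Y.affineCover
  let 𝒰X (j : (Y.affineCover.pullback₁ f).I₀) :
      ((Y.affineCover.pullback₁ f).X j).OpenCover := Scheme.affineCover _
  rw [IsZariskiLocalAtTarget.iff_of_openCover (P := @Smooth) 𝒰Y]
  intro i
  rw [IsZariskiLocalAtSource.iff_of_openCover (P := @Smooth) (𝒰X i)]
  intro j
  have hd := IsZariskiLocalAtTarget.restrict h ((Scheme.Pullback.diagonalCover f 𝒰Y 𝒰X).f ⟨i, j, j⟩).opensRange
  rw [MorphismProperty.arrow_mk_iso_iff (P := pfMor)
    (Scheme.Pullback.diagonalRestrictIsoDiagonal f 𝒰Y 𝒰X i j)] at hd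
  show Smooth ((𝒰X i).f j ≫ pullback.snd f (𝒰Y.f i))
  have hfl : Flat ((𝒰X i).f j ≫ pullback.snd f (𝒰Y.f i)) :=
    MorphismProperty.comp_mem @Flat _ _ inferInstance (MorphismProperty.pullback_snd (P := @Flat) _ _ inferInstance)
  have hft : LocallyOfFiniteType ((𝒰X i).f j ≫ pullback.snd f (𝒰Y.f i)) :=
    MorphismProperty.comp_mem @LocallyOfFiniteType _ _ inferInstance
      (MorphismProperty.pullback_snd (P := @LocallyOfFiniteType) _ _ inferInstance)
  haveI hn : IsLocallyNoetherian (𝒰Y.X i) := isLocallyNoetherian_of_isOpenImmersion (𝒰Y.f i)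
  generalize ((𝒰X i).f j ≫ pullback.snd f (𝒰Y.f i)) = g at hd hfl hft
  obtain ⟨φ, rfl⟩ := Spec.map_surjective g
  haveI := hfl
  haveI := hft
  haveI := isLocallyNoetherian_Spec.1 hn
  exact @smooth_affine _ _ this φ hfl hft hd

/-- The diagonal of a separated smooth morphism is a Koszul regular immersion. -/
theorem koszul_diagonal {X Y : Scheme.{u}} (f : X ⟶ Y) [Smooth f] [IsSeparated f] :
    RegImm.IsRegularImmersion .koszul (pullback.diagonal f) := by
  refine (CI2.koszul_iff_of_smooth_comp (𝟙 X) (pullback.diagonal f) (pullback.fst f f)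
    (pullback.diagonal_fst f)).1 (CI2.isRegularImmersion_of_forall_isKR _ fun z => ?_)
  obtain ⟨U, hU, hz, -⟩ := exists_isAffineOpen_mem_and_subset (X := X) (x := z) (U := ⊤) trivial
  refine ⟨U, hU, hz, inferInstance, ?_⟩
  have hbot : RingHom.ker (Scheme.Hom.app (𝟙 X) U).hom = Ideal.ofList ([] : List Γ(X, U)) := by
    rw [Scheme.Hom.id_app, Ideal.ofList_nil]
    exact (RingHom.injective_iff_ker_eq_bot _).1 fun a b h => h
  rw [hbot]
  exact PerfLCI4.isKR_ofList (CI2.ex_of_isWeaklyRegular _ _ (RingTheory.Sequence.IsWeaklyRegular.nil _ _))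

/-- A Koszul regular closed immersion into a locally Noetherian scheme is a regular closed immersion. -/
theorem isRegularClosedImmersion_of_koszul {Z X : Scheme.{u}} (i : Z ⟶ X) [IsClosedImmersion i] [IsLocallyNoetherian X]
    (h : RegImm.IsRegularImmersion .koszul i) : Mor2.IsRegularClosedImmersion i := by
  refine ⟨inferInstance, fun z => ?_⟩
  obtain ⟨U, hU, hz, -⟩ := exists_isAffineOpen_mem_and_subset (X := X) (x := i z) (U := ⊤) trivial
  haveI : IsClosedImmersion (i ∣_ U) := IsZariskiLocalAtTarget.restrict (P := @IsClosedImmersion) ‹_› U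
  obtain ⟨l, hl, hspan⟩ := PerfLCI4.exists_ex_atPrime (CI2.isKR_of_isRegularImmersion i h hU)
    (hU.primeIdealOf ⟨i z, hz⟩).asIdeal (CI2.ker_le_primeIdealOf i hU hz)
  obtain ⟨⟨U', hU'⟩, hz', -, rs, hrs, hker⟩ :=
    PerfLCI4.isRegularImmersionAt_of_ex i .regular hU hz _ rfl hl hspan
  exact ⟨U', hU', hz', rs, hrs, by rw [Scheme.Hom.ker_apply]; exact hker⟩

end Groth.Agent.PCMor4
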