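import Groth.Agent.Lib.PCMor4.Local
import Groth.Agent.Lib.FppfSource.Ring
import Mathlib

/-!
# Base change and descent of pseudo-coherent and perfect ring maps
-/

set_option autoImplicit false
set_option linter.style.haveILetI false
universe u

attribute [local instance] HasDerivedCategory.standard
attribute [local instance] MvPolynomial.algebraMvPolynomial

open TensorProduct

namespace Groth.Agent.PCMor4

variable {A A' B B' : Type u} [CommRing A] [CommRing A'] [CommRing B] [CommRing B'] [Algebra A A'] [Algebra A B]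
  [Algebra A B'] [Algebra A' B'] [Algebra B B'] [IsScalarTower A A' B'] [IsScalarTower A B B']
  [hP : Algebra.IsPushout A A' B B']

include hP in
theorem tdh_baseChange [Module.Flat A A'] (h : TDH (algebraMap A B)) : TDH (algebraMap A' B') := by
  have key : ∀ [I : Algebra A' B'] [IsScalarTower A A' B'] [Algebra.IsPushout A A' B B'],
      DRing.HasFiniteTorDim A B → DRing.HasFiniteTorDim A' B' := fun ⟨d, hd⟩ =>
    ⟨d, td_equiv (Algebra.IsPushout.equiv A A' B B').toLinearEquiv (td_baseChange d B hd)⟩
  have e₁ : (algebraMap A B).toAlgebra = ‹Algebra A B› := Algebra.algebra_ext _ _ fun _ => rfl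
  have e₂ : (algebraMap A' B').toAlgebra = ‹Algebra A' B'› := Algebra.algebra_ext _ _ fun _ => rfl
  show @DRing.HasFiniteTorDim A' _ B' _ (algebraMap A' B').toAlgebra.toModule
  rw [e₂]
  refine key ?_
  have h' : @DRing.HasFiniteTorDim A _ B _ (algebraMap A B).toAlgebra.toModule := h
  rwa [e₁] at h'

include hP in
theorem tdh_descend [Module.FaithfullyFlat A A'] (h : TDH (algebraMap A' B')) : TDH (algebraMap A B) := by
  have key : DRing.HasFiniteTorDim A' B' → DRing.HasFiniteTorDim A B := fun ⟨d, hd⟩ =>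
    ⟨d, td_of_faithfullyFlat d B (td_equiv (Algebra.IsPushout.equiv A A' B B').symm.toLinearEquiv hd)⟩
  have e₁ : (algebraMap A B).toAlgebra = ‹Algebra A B› := Algebra.algebra_ext _ _ fun _ => rfl
  have e₂ : (algebraMap A' B').toAlgebra = ‹Algebra A' B'› := Algebra.algebra_ext _ _ fun _ => rfl
  show @DRing.HasFiniteTorDim A _ B _ (algebraMap A B).toAlgebra.toModule
  rw [e₁]
  refine key ?_
  have h' : @DRing.HasFiniteTorDim A' _ B' _ (algebraMap A' B').toAlgebra.toModule := h
  rwa [e₂] at h'

/-- The presentation of the base change. -/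
noncomputable def bcPres {n : ℕ} (φ : MvPolynomial (Fin n) A →+* B) : MvPolynomial (Fin n) A' →+* B' :=
  MvPolynomial.eval₂Hom (algebraMap A' B') fun i => algebraMap B B' (φ (MvPolynomial.X i))

omit hP in
theorem bcPres_map {n : ℕ} (φ : MvPolynomial (Fin n) A →+* B) (hφ : φ.comp MvPolynomial.C = algebraMap A B)
    (p : MvPolynomial (Fin n) A) :
    bcPres (A' := A') (B' := B') φ (MvPolynomial.map (algebraMap A A') p) = algebraMap B B' (φ p) := by
  refine RingHom.congr_fun (MvPolynomial.ringHom_ext
    (f := (bcPres (A' := A') (B' := B') φ).comp (MvPolynomial.map (algebraMap A A')))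
    (g := (algebraMap B B').comp φ) (fun a => ?_) fun i => ?_) p
  · simp only [RingHom.comp_apply, bcPres, MvPolynomial.map_C, MvPolynomial.eval₂Hom_C]
    rw [show φ (MvPolynomial.C a) = algebraMap A B a from RingHom.congr_fun hφ a,
      ← IsScalarTower.algebraMap_apply, ← IsScalarTower.algebraMap_apply]
  · simp [bcPres]

include hP in
theorem bcPres_surjective {n : ℕ} (φ : MvPolynomial (Fin n) A →+* B) (hφs : Function.Surjective φ)
    (hφ : φ.comp MvPolynomial.C = algebraMap A B) : Function.Surjective (bcPres (A' := A') (B' := B') φ) := by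
  intro y
  obtain ⟨z, rfl⟩ := (Algebra.IsPushout.equiv A A' B B').surjective y
  induction z using TensorProduct.induction_on with
  | zero => exact ⟨0, by simp⟩
  | add a b ha hb =>
    obtain ⟨x, hx⟩ := ha
    obtain ⟨x', hx'⟩ := hb
    exact ⟨x + x', by rw [map_add, map_add, hx, hx']⟩
  | tmul a b =>
    obtain ⟨p, rfl⟩ := hφs b
    refine ⟨MvPolynomial.C a * MvPolynomial.map (algebraMap A A') p, ?_⟩
    rw [map_mul, bcPres_map φ hφ, Algebra.IsPushout.equiv_tmul]
    simp [bcPres]

include hP in
theorem exists_bc {n : ℕ} (φ : MvPolynomial (Fin n) A →+* B) (hφ : φ.comp MvPolynomial.C = algebraMap A B) :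
    letI := φ.toAlgebra
    letI := (bcPres (A' := A') (B' := B') φ).toAlgebra
    Nonempty (MvPolynomial (Fin n) A' ⊗[MvPolynomial (Fin n) A] B ≃ₗ[MvPolynomial (Fin n) A'] B') := by
  let P := MvPolynomial (Fin n) A
  let P' := MvPolynomial (Fin n) A'
  letI : Algebra P B := φ.toAlgebra
  letI : Algebra P' B' := (bcPres (A' := A') (B' := B') φ).toAlgebra
  letI : Algebra P B' := ((algebraMap B B').comp φ).toAlgebra
  haveI : IsScalarTower A P B := IsScalarTower.of_algebraMap_eq fun a => (RingHom.congr_fun hφ a).symm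
  haveI : IsScalarTower P B B' := IsScalarTower.of_algebraMap_eq fun _ => rfl
  haveI : IsScalarTower P P' B' := IsScalarTower.of_algebraMap_eq fun p => (bcPres_map φ hφ p).symm
  haveI : IsScalarTower A' P' B' := IsScalarTower.of_algebraMap_eq fun a => by
    show _ = bcPres φ (MvPolynomial.C a)
    simp [bcPres]
  haveI : IsScalarTower A P B' := IsScalarTower.of_algebraMap_eq fun a => by
    rw [IsScalarTower.algebraMap_apply P B B', ← IsScalarTower.algebraMap_apply A P B,
      ← IsScalarTower.algebraMap_apply]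
  haveI : Algebra.IsPushout A B A' B' := hP.symm
  haveI : IsScalarTower A P' B' := IsScalarTower.of_algebraMap_eq fun a => by
    rw [IsScalarTower.algebraMap_apply A A' B', IsScalarTower.algebraMap_apply A' P' B',
      ← IsScalarTower.algebraMap_apply A A' P']
  haveI : Algebra.IsPushout A P A' P' := inferInstance
  haveI : Algebra.IsPushout P B P' B' := Algebra.IsPushout.comp_iff (R := A) (S := P) (R' := A') (S' := P') |>.1 inferInstance
  haveI : Algebra.IsPushout P P' B B' := Algebra.IsPushout.symm inferInstance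
  exact ⟨(Algebra.IsPushout.equiv P P' B B').toLinearEquiv⟩

include hP in
theorem pch_baseChange [Module.Flat A A'] (h : PCH (algebraMap A B)) : PCH (algebraMap A' B') := by
  obtain ⟨n, φ, hs, hC, hpc⟩ := h
  refine ⟨n, bcPres φ, bcPres_surjective φ hs hC, RingHom.ext fun a => by simp [bcPres], ?_⟩
  letI := φ.toAlgebra
  letI := (bcPres (A' := A') (B' := B') φ).toAlgebra
  obtain ⟨e⟩ := exists_bc (A' := A') (B' := B') φ hC
  haveI : Algebra.IsPushout A A' (MvPolynomial (Fin n) A) (MvPolynomial (Fin n) A') := inferInstance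
  haveI : Module.Flat (MvPolynomial (Fin n) A) (MvPolynomial (Fin n) A') :=
    Module.Flat.of_linearEquiv
      (Algebra.IsPushout.equiv A (MvPolynomial (Fin n) A) A' (MvPolynomial (Fin n) A')).symm.toLinearEquiv
  exact fun k => pcn_equiv e (pcn_baseChange k B (hpc k))

include hP in
/-- Base change of a flat pseudo-coherent map. -/
theorem pch_baseChange_of_flat [Module.Flat A B] (h : PCH (algebraMap A B)) : PCH (algebraMap A' B') := by
  obtain ⟨n, φ, hs, hC, hpc⟩ := h
  refine ⟨n, bcPres φ, bcPres_surjective φ hs hC, RingHom.ext fun a => by simp [bcPres], ?_⟩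
  letI := φ.toAlgebra
  letI := (bcPres (A' := A') (B' := B') φ).toAlgebra
  obtain ⟨e⟩ := exists_bc (A' := A') (B' := B') φ hC
  haveI : IsScalarTower A (MvPolynomial (Fin n) A) B :=
    IsScalarTower.of_algebraMap_eq fun a => (RingHom.congr_fun hC a).symm
  exact fun k => pcn_equiv e (pcn_baseChange_of_flat (A := A) (A' := A') k B (hpc k))

include hP in
theorem pch_descend [Module.FaithfullyFlat A A'] (h : PCH (algebraMap A' B')) : PCH (algebraMap A B) := by
  haveI : Algebra.FiniteType A' B' := RingHom.finiteType_algebraMap.1 (finiteType_of_pch h)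
  haveI : Algebra.FiniteType A' (A' ⊗[A] B) :=
    (inferInstance : Algebra.FiniteType A' B').equiv (Algebra.IsPushout.equiv A A' B B').symm
  haveI : Algebra.FiniteType A B := Algebra.FiniteType.of_finiteType_tensorProduct_of_faithfullyFlat A'
  obtain ⟨n, φ₀, hs⟩ := Algebra.FiniteType.iff_quotient_mvPolynomial''.1 (inferInstance : Algebra.FiniteType A B)
  let φ := φ₀.toRingHom
  have hC : φ.comp MvPolynomial.C = algebraMap A B := φ₀.comp_algebraMap
  have h' := pcr_of_pch h (bcPres (A' := A') (B' := B') φ) (bcPres_surjective φ hs hC)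
    (RingHom.ext fun a => by simp [bcPres])
  refine ⟨n, φ, hs, hC, ?_⟩
  letI := φ.toAlgebra
  letI := (bcPres (A' := A') (B' := B') φ).toAlgebra
  obtain ⟨e⟩ := exists_bc (A' := A') (B' := B') φ hC
  haveI : Algebra.IsPushout A (MvPolynomial (Fin n) A) A' (MvPolynomial (Fin n) A') := inferInstance
  haveI : Module.FaithfullyFlat (MvPolynomial (Fin n) A) (MvPolynomial (Fin n) A') :=
    Module.FaithfullyFlat.of_linearEquiv _ _
      (Algebra.IsPushout.equiv A (MvPolynomial (Fin n) A) A' (MvPolynomial (Fin n) A')).symm.toLinearEquiv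
  exact fun k => pcn_of_faithfullyFlat k B (pcn_equiv e.symm (h' k))

omit hP in
/-- Flat maps of finite presentation are perfect. -/
theorem pfh_of_flat {R S : Type u} [CommRing R] [CommRing S] (f : R →+* S) (hf : f.Flat)
    (hfp : f.FinitePresentation) : PFH f := by
  refine ⟨?_, tdh_of_flat f hf⟩
  letI := f.toAlgebra
  haveI : Module.Flat R S := hf
  haveI : Algebra.FinitePresentation R S := hfp
  obtain ⟨R₀, S₀, _, _, hR₀, hfp₀, hfl₀, ⟨e⟩⟩ := FppfSource.exists_flat_model ℤ R S
  haveI : Algebra.FiniteType ℤ R₀ := R₀.fg_iff_finiteType.1 hR₀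
  haveI : IsNoetherianRing R₀ := Algebra.FiniteType.isNoetherianRing ℤ R₀
  letI : Algebra S₀ S := (e.symm.toRingEquiv.toRingHom.comp
    (Algebra.TensorProduct.includeRight : S₀ →ₐ[R₀] R ⊗[R₀] S₀).toRingHom).toAlgebra
  haveI : IsScalarTower R₀ R S := IsScalarTower.of_algebraMap_eq fun _ => rfl
  haveI : IsScalarTower R₀ S₀ S := IsScalarTower.of_algebraMap_eq fun r => by
    show algebraMap R S (algebraMap R₀ R r) = e.symm ((1 : R) ⊗ₜ[R₀] algebraMap R₀ S₀ r)
    rw [← e.symm.commutes]
    refine congrArg e.symm ?_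
    rw [Algebra.TensorProduct.algebraMap_apply, Algebra.algebraMap_self, RingHom.id_apply,
      Algebra.algebraMap_eq_smul_one, Algebra.algebraMap_eq_smul_one, TensorProduct.smul_tmul]
  letI : Algebra S₀ (R ⊗[R₀] S₀) := Algebra.TensorProduct.rightAlgebra
  haveI : IsScalarTower R₀ S₀ (R ⊗[R₀] S₀) := IsScalarTower.of_algebraMap_eq fun r => by
    show _ = (1 : R) ⊗ₜ[R₀] algebraMap R₀ S₀ r
    rw [Algebra.algebraMap_eq_smul_one, Algebra.algebraMap_eq_smul_one, TensorProduct.tmul_smul]
    rfl
  haveI : Algebra.IsPushout R₀ R S₀ (R ⊗[R₀] S₀) := TensorProduct.isPushout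
  haveI : Algebra.IsPushout R₀ R S₀ S :=
    Algebra.IsPushout.of_equiv e.symm rfl
  have h0 : PCH (algebraMap R₀ S₀) :=
    pch_of_noetherian _ (RingHom.finiteType_algebraMap.2 (inferInstance : Algebra.FiniteType R₀ S₀))
  exact pch_baseChange_of_flat (A := R₀) (A' := R) (B := S₀) (B' := S) h0

end Groth.Agent.PCMor4
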