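import Groth.Agent.Lib.PCMor4.Local
import Mathlib

/-!
# Pseudo-coherence of finite maps
-/

set_option autoImplicit false
set_option linter.style.haveILetI false
universe u

attribute [local instance] HasDerivedCategory.standard

open MvPolynomial

namespace Groth.Agent.PCMor4

/-- Adjoining one integral element. -/
theorem pcr_polynomial_iff {P B : Type u} [CommRing P] [CommRing B] (τ : Polynomial P →+* B)
    (hx : (τ.comp Polynomial.C).IsIntegralElem (τ Polynomial.X)) : PCR τ ↔ PCR (τ.comp Polynomial.C) := by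
  obtain ⟨p, hp, hp0⟩ := hx
  have hτp : τ p = 0 := by
    rw [← hp0]
    exact RingHom.congr_fun (Polynomial.ringHom_ext (f := τ)
      (g := Polynomial.eval₂RingHom (τ.comp Polynomial.C) (τ Polynomial.X)) (fun a => by simp) (by simp)) p
  let σ : Polynomial P →+* AdjoinRoot p := AdjoinRoot.mk p
  have hσs : Function.Surjective σ := AdjoinRoot.mk_surjective
  have hσk : RingHom.ker σ = Ideal.span {p} := by
    ext a; simp [σ, AdjoinRoot.mk_eq_zero, Ideal.mem_span_singleton]
  have hσ : PCR σ := pcr_of_regular σ hσs p (fun a ha => (hp.isRegular.left (by simpa using ha))) hσk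
  let τ' : AdjoinRoot p →+* B := σ.liftOfSurjective hσs ⟨τ, by
    rw [hσk, Ideal.span_le, Set.singleton_subset_iff]; exact hτp⟩
  have hτ' : τ'.comp σ = τ := σ.liftOfSurjective_comp hσs ⟨τ, _⟩
  have hpcn : ∀ k, PCn P k (AdjoinRoot p) := fun k => by
    haveI := Module.Free.of_basis (AdjoinRoot.powerBasis' hp).basis
    haveI := Module.Finite.of_basis (AdjoinRoot.powerBasis' hp).basis
    exact pcn_finiteProjective k _
  have hof : PCR (σ.comp Polynomial.C) := by
    have e₁ : (σ.comp Polynomial.C).toAlgebra = (AdjoinRoot.instAlgebra p : Algebra P (AdjoinRoot p)) :=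
      Algebra.algebra_ext _ _ fun _ => rfl
    show ∀ k, @PCn P _ k _ _ (σ.comp Polynomial.C).toAlgebra.toModule
    rw [e₁]
    exact hpcn
  rw [← hτ', pcr_iff_of_pcr σ τ' hσ, RingHom.comp_assoc, pcr_iff_of_pcr _ τ' hof]

theorem pcr_mvPolynomial_iff {A B : Type u} [CommRing A] [CommRing B] :
    ∀ {n : ℕ} (φ : MvPolynomial (Fin n) A →+* B), (φ.comp C).IsIntegral → (PCR φ ↔ PCR (φ.comp C)) := by
  intro n
  induction n with
  | zero =>
    intro φ _
    exact (pcr_iff_of_pcr C φ (pcr_of_bijective C ⟨C_injective _ _, C_surjective _⟩)).symm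
  | succ n ih =>
    intro φ hint
    let e := (MvPolynomial.finSuccEquiv A n).symm.toRingEquiv.toRingHom
    have he : PCR e := pcr_of_bijective e (MvPolynomial.finSuccEquiv A n).symm.bijective
    let ψ := (φ.comp e).comp Polynomial.C
    have hC : ψ.comp C = φ.comp C := RingHom.ext fun a => congrArg φ (by
      show (MvPolynomial.finSuccEquiv A n).symm (Polynomial.C (C a)) = C a
      exact RingHom.congr_fun (MvPolynomial.finSuccEquiv_comp_C_eq_C n) a)
    have hint' : (ψ.comp C).IsIntegral := by rw [hC]; exact hint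
    rw [← pcr_iff_of_pcr e φ he, pcr_polynomial_iff _ ((RingHom.IsIntegral.tower_top _ _ hint') _), ih ψ hint', hC]

theorem pch_iff_pcr_of_finite {A B : Type u} [CommRing A] [CommRing B] (f : A →+* B) (hf : f.Finite) :
    PCH f ↔ PCR f := by
  refine ⟨fun ⟨n, φ, hs, hC, h⟩ => ?_, fun h => ?_⟩
  · have := (pcr_mvPolynomial_iff φ (by rw [hC]; exact hf.to_isIntegral)).1 h
    rwa [hC] at this
  · letI := f.toAlgebra
    obtain ⟨n, φ₀, hs⟩ := Algebra.FiniteType.iff_quotient_mvPolynomial''.1 hf.finiteType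
    have hC : φ₀.toRingHom.comp C = f := φ₀.comp_algebraMap
    exact ⟨n, φ₀.toRingHom, hs, hC, (pcr_mvPolynomial_iff φ₀.toRingHom (by rw [hC]; exact hf.to_isIntegral)).2
      (by rw [hC]; exact h)⟩

end Groth.Agent.PCMor4
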