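import Groth.Agent.Lib.DMod.PCModule
import Groth.Agent.Lib.DMod.Amplitude
import Groth.Agent.Lib.FlatSyz.Kernel
import Groth.Prelude.Def_DRing2
import Mathlib

/-!
# Pseudo-coherent modules: change of rings, flat base change, descent
-/

set_option autoImplicit false
set_option linter.style.haveILetI false
universe u

attribute [local instance] HasDerivedCategory.standard

open TensorProduct CategoryTheory CategoryTheory.Pretriangulated
open Groth.Agent.DMod

namespace Groth.Agent.PCMor4

/-- `M` is `(-k)`-pseudo-coherent. -/
abbrev PCn (A : Type u) [CommRing A] (k : ℕ) (M : Type u) [AddCommGroup M] [Module A M] : Prop :=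
  DRing.IsPseudoCoherentModule A (-(k : ℤ)) M

theorem pc'_iff_PCn {A : Type u} [CommRing A] {M : Type u} [AddCommGroup M] [Module A M] :
    DRing.IsPseudoCoherentModule' A M ↔ ∀ k, PCn A k M := by
  rw [pcModule'_iff]
  exact ⟨fun h k => h _, fun h m => pc_mono (by omega) (h (-m).toNat)⟩

variable {A : Type u} [CommRing A]

theorem pcn_equiv {k : ℕ} {M N : Type u} [AddCommGroup M] [Module A M] [AddCommGroup N] [Module A N] (e : M ≃ₗ[A] N)
    (h : PCn A k M) : PCn A k N :=
  pcModule_equiv e h

theorem pcn_mono {k l : ℕ} (hkl : l ≤ k) {M : Type u} [AddCommGroup M] [Module A M] (h : PCn A k M) : PCn A l M :=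
  pc_mono (by omega) h

theorem pcn_zero_iff {M : Type u} [AddCommGroup M] [Module A M] : PCn A 0 M ↔ Module.Finite A M := by
  show DRing.IsPseudoCoherentModule A (-(0 : ℤ)) M ↔ _
  rw [neg_zero]
  exact pcModule_zero_iff M

theorem pcn_finiteProjective (k : ℕ) (M : Type u) [AddCommGroup M] [Module A M] [Module.Finite A M]
    [Module.Projective A M] : PCn A k M :=
  pcModule_finiteProjective _ M

theorem pcn_of_subsingleton (k : ℕ) (M : Type u) [AddCommGroup M] [Module A M] [Subsingleton M] : PCn A k M :=
  haveI := Module.Free.of_subsingleton A M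
  pcModule_finiteFree _ M

theorem finite_of_pcn {k : ℕ} {M : Type u} [AddCommGroup M] [Module A M] (h : PCn A k M) : Module.Finite A M :=
  pcn_zero_iff.1 (pcn_mono (Nat.zero_le k) h)

/-- The kernel of a surjection from a pseudo-coherent module. -/
theorem pcn_succ_iff {F M : Type u} [AddCommGroup F] [Module A F] [AddCommGroup M] [Module A M] (p : F →ₗ[A] M)
    (hp : Function.Surjective p) {k : ℕ} (hF : ∀ m, PCn A m F) :
    PCn A (k + 1) M ↔ PCn A k (LinearMap.ker p) := by
  have hk : (-((k + 1 : ℕ) : ℤ)) + 1 = -(k : ℤ) := by push_cast; ring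
  constructor
  · intro h
    show DRing.IsPseudoCoherentModule A (-(k : ℤ)) _
    rw [← hk]
    exact pcModule_ker p hp (hk ▸ hF k) h
  · exact fun h => pcModule_quotient p hp (hk ▸ h) (hF (k + 1))

/-- An extension of pseudo-coherent modules is pseudo-coherent. -/
theorem pcn_ext {F M : Type u} [AddCommGroup F] [Module A F] [AddCommGroup M] [Module A M] (p : F →ₗ[A] M)
    (hp : Function.Surjective p) {k : ℕ} (hK : PCn A k (LinearMap.ker p)) (hM : PCn A k M) : PCn A k F := by
  obtain ⟨h, hT⟩ := exists_surj_triangle p hp
  exact pc_triangle₂ _ hT hK hM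

theorem pcn_pi {M : Type u} [AddCommGroup M] [Module A M] {k : ℕ} (hM : PCn A k M) :
    ∀ n : ℕ, PCn A k (Fin n → M)
  | 0 => pcn_of_subsingleton k _
  | n + 1 => by
    let p : (Fin (n + 1) → M) →ₗ[A] M := LinearMap.proj 0
    refine pcn_ext p (fun x => ⟨fun _ => x, rfl⟩) ?_ hM
    let e : (Fin n → M) ≃ₗ[A] LinearMap.ker p :=
      { toFun := fun v => ⟨Fin.cons 0 v, rfl⟩
        map_add' := fun v w => Subtype.ext (funext fun i => by refine Fin.cases ?_ (fun j => ?_) i <;> simp)
        map_smul' := fun a v => Subtype.ext (funext fun i => by refine Fin.cases ?_ (fun j => ?_) i <;> simp)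
        invFun := fun v j => v.1 j.succ
        left_inv := fun v => funext fun j => by simp
        right_inv := fun v => Subtype.ext (funext fun i => Fin.cases (v.2.symm) (fun j => by simp) i) }
    exact pcn_equiv e (pcn_pi hM n)

section Restrict

variable {R R' : Type u} [CommRing R] [CommRing R'] [Algebra R R']

/-- Over a pseudo-coherent algebra pseudo-coherence can be tested over the base. -/
theorem pcn_restrict_iff (hR' : ∀ k, PCn R k R') :
    ∀ (k : ℕ) (M : Type u) [AddCommGroup M] [Module R M] [Module R' M] [IsScalarTower R R' M],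
      PCn R' k M ↔ PCn R k M := by
  intro k
  induction k with
  | zero =>
    intro M _ _ _ _
    haveI : Module.Finite R R' := finite_of_pcn (hR' 0)
    rw [pcn_zero_iff, pcn_zero_iff]
    exact ⟨fun _ => Module.Finite.trans R' M, fun _ => Module.Finite.of_restrictScalars_finite R R' M⟩
  | succ k ih =>
    intro M _ _ _ _
    haveI : Module.Finite R R' := finite_of_pcn (hR' 0)
    have step : ∀ [Module.Finite R' M], PCn R' (k + 1) M ↔ PCn R (k + 1) M := by
      intro _
      obtain ⟨n, p, hp⟩ := Module.Finite.exists_fin' R' M
      have hp' : Function.Surjective (p.restrictScalars R) := hp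
      rw [pcn_succ_iff p hp (fun m => pcn_finiteProjective m _),
        pcn_succ_iff (p.restrictScalars R) hp' (fun m => pcn_pi (hR' m) n), ih]
      let e : LinearMap.ker p ≃ₗ[R] LinearMap.ker (p.restrictScalars R) :=
        { toFun := fun x => ⟨x.1, x.2⟩
          map_add' := fun _ _ => rfl
          map_smul' := fun _ _ => rfl
          invFun := fun x => ⟨x.1, x.2⟩
          left_inv := fun _ => rfl
          right_inv := fun _ => rfl }
      exact ⟨fun h => pcn_equiv e h, fun h => pcn_equiv e.symm h⟩
    constructor
    · intro h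
      haveI := finite_of_pcn h
      exact step.1 h
    · intro h
      haveI := finite_of_pcn h
      haveI : Module.Finite R' M := Module.Finite.of_restrictScalars_finite R R' M
      exact step.2 h

end Restrict

section BaseChange

theorem flat_ker {R F M : Type u} [CommRing R] [AddCommGroup F] [Module R F] [AddCommGroup M] [Module R M]
    [Module.Flat R F] [Module.Flat R M] (p : F →ₗ[R] M) (hp : Function.Surjective p) :
    Module.Flat R (LinearMap.ker p) := by
  refine Module.Flat.iff_rTensor_preserves_injective_linearMap.2 fun N N' _ _ _ _ g hg => ?_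
  have hinj := FlatSyz.lTensor_subtype_injective_of_flat_quotient (LinearMap.ker p).subtype
    (LinearMap.ker p).injective_subtype p (LinearMap.exact_subtype_ker_map p) hp N
  have hF := Module.Flat.rTensor_preserves_injective_linearMap (M := F) g hg
  intro x y hxy
  apply hinj
  apply hF
  rw [← LinearMap.comp_apply, ← LinearMap.comp_apply (g.rTensor F), LinearMap.rTensor_comp_lTensor,
    ← LinearMap.lTensor_comp_rTensor, LinearMap.comp_apply, LinearMap.comp_apply, hxy]

variable {R R' : Type u} [CommRing R] [CommRing R'] [Algebra R R']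

/-- The base change of the kernel of a surjection that stays exact. -/
noncomputable def kerBaseChange {F M : Type u} [AddCommGroup F] [Module R F] [AddCommGroup M] [Module R M]
    (p : F →ₗ[R] M) (hp : Function.Surjective p)
    (hinj : Function.Injective ((LinearMap.ker p).subtype.lTensor R')) :
    R' ⊗[R] (LinearMap.ker p) ≃ₗ[R'] LinearMap.ker (p.baseChange R') :=
  let j : R' ⊗[R] (LinearMap.ker p) →ₗ[R'] R' ⊗[R] F := (LinearMap.ker p).subtype.baseChange R'
  have hr : LinearMap.range j = LinearMap.ker (p.baseChange R') := by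
    have hex := lTensor_exact R' (LinearMap.exact_subtype_ker_map p) hp
    ext z
    exact (hex z).symm
  (LinearEquiv.ofInjective j hinj).trans (LinearEquiv.ofEq _ _ hr)

/-- Flat base change. -/
theorem pcn_baseChange [Module.Flat R R'] : ∀ (k : ℕ) (M : Type u) [AddCommGroup M] [Module R M],
    PCn R k M → PCn R' k (R' ⊗[R] M) := by
  intro k
  induction k with
  | zero =>
    intro M _ _ h
    haveI := finite_of_pcn h
    exact pcn_zero_iff.2 inferInstance
  | succ k ih =>
    intro M _ _ h
    haveI := finite_of_pcn h
    obtain ⟨n, p, hp⟩ := Module.Finite.exists_fin' R M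
    have hk := ih _ ((pcn_succ_iff p hp fun m => pcn_finiteProjective m _).1 h)
    refine (pcn_succ_iff (p.baseChange R') (LinearMap.lTensor_surjective R' hp) fun m => pcn_finiteProjective m _).2 ?_
    exact pcn_equiv (kerBaseChange p hp
      (Module.Flat.lTensor_preserves_injective_linearMap _ (LinearMap.ker p).injective_subtype)) hk

/-- Descent along a jointly faithful family of flat algebras. -/
theorem pcn_descend {ι : Type*} (S : ι → Type u) [∀ i, CommRing (S i)] [∀ i, Algebra R (S i)]
    [∀ i, Module.Flat R (S i)]
    (hfin : ∀ (N : Type u) [AddCommGroup N] [Module R N], (∀ i, Module.Finite (S i) (S i ⊗[R] N)) → Module.Finite R N) :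
    ∀ (k : ℕ) (M : Type u) [AddCommGroup M] [Module R M], (∀ i, PCn (S i) k (S i ⊗[R] M)) → PCn R k M := by
  intro k
  induction k with
  | zero => exact fun M _ _ h => pcn_zero_iff.2 (hfin M fun i => finite_of_pcn (h i))
  | succ k ih =>
    intro M _ _ h
    haveI := hfin M fun i => finite_of_pcn (h i)
    obtain ⟨n, p, hp⟩ := Module.Finite.exists_fin' R M
    refine (pcn_succ_iff p hp fun m => pcn_finiteProjective m _).2 (ih _ fun i => ?_)
    exact pcn_equiv (kerBaseChange p hp
      (Module.Flat.lTensor_preserves_injective_linearMap _ (LinearMap.ker p).injective_subtype)).symm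
      ((pcn_succ_iff (p.baseChange (S i)) (LinearMap.lTensor_surjective (S i) hp) fun m => pcn_finiteProjective m _).1 (h i))

theorem pcn_of_faithfullyFlat [Module.FaithfullyFlat R R'] (k : ℕ) (M : Type u) [AddCommGroup M] [Module R M]
    (h : PCn R' k (R' ⊗[R] M)) : PCn R k M :=
  pcn_descend (fun _ : Unit => R') (fun _ _ _ hN => haveI := hN (); Module.Finite.of_finite_tensorProduct_of_faithfullyFlat R')
    k M (fun _ => h)

theorem pcn_of_span (s : Set R) (hs : Ideal.span s = ⊤) (k : ℕ) (M : Type u) [AddCommGroup M] [Module R M]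
    (h : ∀ r : s, PCn (Localization.Away r.1) k (Localization.Away r.1 ⊗[R] M)) : PCn R k M := by
  refine pcn_descend (fun r : s => Localization.Away r.1) (fun N _ _ hN => ?_) k M h
  obtain ⟨t, ht, hts⟩ := (Ideal.span_eq_top_iff_finite s).1 hs
  exact Module.Finite.of_localizationSpan_finite' t hts
    (Mₚ := fun g => Localization.Away g.1 ⊗[R] N) (Rₚ := fun g => Localization.Away g.1)
    (fun g => TensorProduct.mk R (Localization.Away g.1) N 1) (fun g => hN ⟨g.1, ht g.2⟩)

end BaseChange

/-- Base change of a pseudo-coherent module over an algebra, flat over the base. -/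
theorem pcn_baseChange_of_flat {A A' P P' : Type u} [CommRing A] [CommRing A'] [CommRing P] [CommRing P']
    [Algebra A A'] [Algebra A P] [Algebra A P'] [Algebra P P'] [Algebra A' P'] [IsScalarTower A P P']
    [IsScalarTower A A' P'] [hP : Algebra.IsPushout A A' P P'] [Module.Flat A P] :
    ∀ (k : ℕ) (M : Type u) [AddCommGroup M] [Module A M] [Module P M] [IsScalarTower A P M] [Module.Flat A M],
      PCn P k M → PCn P' k (P' ⊗[P] M) := by
  intro k
  induction k with
  | zero =>
    intro M _ _ _ _ _ h
    haveI := finite_of_pcn h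
    exact pcn_zero_iff.2 inferInstance
  | succ k ih =>
    intro M _ _ _ _ _ h
    haveI := finite_of_pcn h
    obtain ⟨n, p, hp⟩ := Module.Finite.exists_fin' P M
    haveI : Module.Flat A (Fin n → P) := Module.Flat.trans A P _
    haveI : Module.Flat A (LinearMap.ker p) := flat_ker (p.restrictScalars A) hp
    have hk := ih _ ((pcn_succ_iff p hp fun m => pcn_finiteProjective m _).1 h)
    refine (pcn_succ_iff (p.baseChange P') (LinearMap.lTensor_surjective P' hp) fun m => pcn_finiteProjective m _).2 ?_
    refine pcn_equiv (kerBaseChange p hp ?_) hk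
    let i := (LinearMap.ker p).subtype
    let e₁ := (Algebra.IsPushout.cancelBaseChange A A' P P' (LinearMap.ker p))
    let e₂ := (Algebra.IsPushout.cancelBaseChange A A' P P' (Fin n → P))
    have hinjA : Function.Injective ((i.restrictScalars A).lTensor A') :=
      FlatSyz.lTensor_subtype_injective_of_flat_quotient (i.restrictScalars A) (LinearMap.ker p).injective_subtype
        (p.restrictScalars A) (LinearMap.exact_subtype_ker_map p) hp A'
    have hcomm : ∀ z, e₂ (i.lTensor P' z) = (i.restrictScalars A).lTensor A' (e₁ z) := by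
      intro z
      obtain ⟨z, rfl⟩ := e₁.symm.surjective z
      rw [LinearEquiv.apply_symm_apply]
      induction z using TensorProduct.induction_on with
      | zero => simp
      | add a b ha hb => simp only [map_add, ha, hb]
      | tmul a m => apply e₂.symm.injective; simp [e₁, e₂, i]
    exact fun x y hxy => e₁.injective (hinjA (by rw [← hcomm, ← hcomm, hxy]))

end Groth.Agent.PCMor4
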