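import Groth.Agent.Lib.PCMor4.BaseChange
import Groth.Agent.Lib.PCMor4.Finite
import Mathlib

/-!
# Pseudo-coherent quotients
-/

set_option autoImplicit false
set_option linter.style.haveILetI false
universe u

attribute [local instance] HasDerivedCategory.standard

namespace Groth.Agent.PCMor4

theorem pch_quotient_iff {A B : Type u} [CommRing A] [CommRing B] (f : A →+* B) (hf : f.Flat)
    (hfp : f.FinitePresentation) (I : Ideal B) :
    PCH ((Ideal.Quotient.mk I).comp f) ↔ ∀ k, PCn B k I := by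
  have hB := (pfh_of_flat f hf hfp).1
  have hfin : (Ideal.Quotient.mk I).Finite := RingHom.Finite.of_surjective _ Ideal.Quotient.mk_surjective
  have h1 : PCH ((Ideal.Quotient.mk I).comp f) ↔ PCR (Ideal.Quotient.mk I) := by
    rw [← pch_iff_pcr_of_finite _ hfin]
    exact ⟨fun h => pch_cancel hB h, fun h => pch_comp hB h⟩
  rw [h1]
  have e₁ : (Ideal.Quotient.mk I).toAlgebra = (Ideal.Quotient.algebra B) := Algebra.algebra_ext _ _ fun _ => rfl
  let p : B →ₗ[B] B ⧸ I := Submodule.mkQ I
  let E : LinearMap.ker p ≃ₗ[B] I := LinearEquiv.ofEq _ _ (Submodule.ker_mkQ I)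
  show (∀ k, @PCn B _ k _ _ (Ideal.Quotient.mk I).toAlgebra.toModule) ↔ _
  rw [e₁]
  exact ⟨fun h k => pcn_equiv E ((pcn_succ_iff p (Submodule.mkQ_surjective I) fun m => pcn_finiteProjective m _).1 (h (k + 1))),
    fun h k => pcn_mono (Nat.le_succ k)
      ((pcn_succ_iff p (Submodule.mkQ_surjective I) fun m => pcn_finiteProjective m _).2 (pcn_equiv E.symm (h k)))⟩

end Groth.Agent.PCMor4
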