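import Groth.Agent.Lib.PCMor4.Local
import Groth.Agent.Lib.HomDim.LocalizePd
import Groth.Agent.Lib.TorBal.Perfect
import Groth.Agent.Lib.RegLoc.GlobalDim
import Mathlib

/-!
# Finite type maps out of regular rings of finite dimension are perfect
-/

set_option autoImplicit false
set_option linter.style.haveILetI false
universe u

attribute [local instance] HasDerivedCategory.standard

open CategoryTheory

namespace Groth.Agent.PCMor4

theorem exists_torDim_le_of_regular {A : Type u} [CommRing A] [IsRegularRing A] (hdim : ringKrullDim A < ⊤) :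
    ∃ d : ℕ, ∀ (M : Type u) [AddCommGroup M] [Module A M], DRing.HasTorDimLE A d M := by
  obtain ⟨d, hd⟩ : ∃ d : ℕ, ringKrullDim A ≤ d := by
    cases h : ringKrullDim A with
    | bot => exact ⟨0, bot_le⟩
    | coe a =>
      cases a with
      | top => rw [h] at hdim; exact absurd hdim (lt_irrefl _)
      | coe n => exact ⟨n, le_rfl⟩
  refine ⟨d, fun M _ _ => TorBal.hasTorDimLE_of_amplitude M d (TorBal.amplitude_of_pd d M ?_)⟩
  refine HomDim.hasProjectiveDimensionLT_of_forall_cyclic d (fun I => ?_) (ModuleCat.of A M)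
  refine ((ModuleCat.of A (A ⧸ I)).hasProjectiveDimensionLE_iff_forall_primeSpectrum d).2 fun p => ?_
  have h1 : (IsLocalRing.maximalIdeal (Localization.AtPrime p.asIdeal)).spanFinrank ≤ d := by
    have h2 : ((IsLocalRing.maximalIdeal (Localization.AtPrime p.asIdeal)).spanFinrank : WithBot ℕ∞) ≤ d := by
      rw [IsRegularLocalRing.spanFinrank_maximalIdeal, IsLocalization.AtPrime.ringKrullDim_eq_height p.asIdeal]
      exact (Ideal.height_le_ringKrullDim_of_ne_top p.isPrime.ne_top).trans hd
    exact_mod_cast h2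
  have h3 := Groth.Agent.RegLoc.hasProjectiveDimensionLT_of_regular (R := Localization.AtPrime p.asIdeal) rfl
    ((ModuleCat.of A (A ⧸ I)).localizedModule p.asIdeal.primeCompl)
  exact @hasProjectiveDimensionLT_of_ge _ _ _ _ _ (d + 1) (by omega) h3

theorem pfh_of_regular {A B : Type u} [CommRing A] [CommRing B] [IsRegularRing A] (hdim : ringKrullDim A < ⊤)
    (f : A →+* B) (hf : f.FiniteType) : PFH f := by
  obtain ⟨d, hd⟩ := exists_torDim_le_of_regular hdim
  refine ⟨pch_of_noetherian f hf, ?_⟩
  letI := f.toAlgebra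
  exact ⟨d, hd B⟩

end Groth.Agent.PCMor4
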